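import Groth.Agent.NodeForm.Completion

/-!
# Local algebras whose completion is a nondegenerate quadratic cone
-/

set_option autoImplicit false
set_option linter.style.haveILetI false

universe u

open IsLocalRing

noncomputable section

namespace Groth.Agent.NodeForm

variable {A : Type u} [CommRing A] [IsLocalRing A] [IsNoetherianRing A]

/-- The algebraic node conditions from the completion. -/
theorem exists_relation_of_equiv {a' b' c' : ResidueField A} (hd : b' ^ 2 - 4 * a' * c' ≠ 0)
    (e : AdicCompletion (maximalIdeal A) A ≃+*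
      (MvPowerSeries (Fin 2) (ResidueField A) ⧸ Ideal.span {qf a' b' c'})) :
    IsReduced A ∧ Module.finrank (ResidueField A) (CotangentSpace A) = 2 ∧
      ∃ x y a b c : A, x ∈ maximalIdeal A ∧ y ∈ maximalIdeal A ∧
        Ideal.span {x, y} ⊔ maximalIdeal A ^ 2 = maximalIdeal A ∧
        residue A (4 * a * c - b ^ 2) ≠ 0 ∧
        a * x ^ 2 + b * x * y + c * y ^ 2 ∈ maximalIdeal A ^ 3 := by
  classical
  let P := MvPowerSeries (Fin 2) (ResidueField A)
  let Q := P ⧸ Ideal.span {qf a' b' c'}
  set R := AdicCompletion (maximalIdeal A) A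
  haveI : IsNoetherianRing R := RegLoc.Completion.isNoetherianRing_adicCompletion' _
  haveI : Module.FaithfullyFlat A R := Module.FaithfullyFlat.of_flat_of_isLocalHom
  haveI hred : IsReduced Q := isReduced_quotient hd
  haveI : IsReduced R := isReduced_of_injective e e.injective
  have hR : IsReduced A := isReduced_of_injective (algebraMap A R) (FaithfulSMul.algebraMap_injective A R)
  haveI : Nontrivial Q := e.symm.toEquiv.nontrivial
  haveI : IsLocalRing Q := IsLocalRing.of_surjective' (Ideal.Quotient.mk _) Ideal.Quotient.mk_surjective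
  let mk := Ideal.Quotient.mk (Ideal.span {qf a' b' c'})
  have hM : (maximalIdeal P).map mk = maximalIdeal Q :=
    IsLocalRing.map_maximalIdeal_of_surjective _ Ideal.Quotient.mk_surjective
  let E : A →+* Q := e.toRingHom.comp (algebraMap A R)
  have hE : ∀ (n : ℕ) (z : A), E z ∈ maximalIdeal Q ^ n ↔ z ∈ maximalIdeal A ^ n := by
    intro n z
    have h1 : (maximalIdeal R ^ n).map e.toRingHom = maximalIdeal Q ^ n := by
      rw [Ideal.map_pow, IsLocalRing.map_maximalIdeal_of_surjective _ e.surjective]
    rw [← comap_pow (A := A) n, Ideal.mem_comap, ← h1]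
    exact ⟨fun h => by
      obtain ⟨w, hw, hwe⟩ := (Ideal.mem_map_iff_of_surjective _ e.surjective).mp h
      rwa [← e.injective (show e w = e (algebraMap A R z) from hwe)],
      fun h => Ideal.mem_map_of_mem _ h⟩
  have hlift : ∀ (n : ℕ) (w : Q), ∃ z : A, w - E z ∈ maximalIdeal Q ^ n := by
    intro n w
    obtain ⟨z, hz⟩ := exists_sub_mem n (e.symm w)
    refine ⟨z, ?_⟩
    have := Ideal.mem_map_of_mem e.toRingHom hz
    rw [Ideal.map_pow, IsLocalRing.map_maximalIdeal_of_surjective _ e.surjective, map_sub] at this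
    simpa [E] using this
  have hX : ∀ i, mk (MvPowerSeries.X i) ∈ maximalIdeal Q := fun i => hM ▸ Ideal.mem_map_of_mem _
    (by rw [PSLoc.maximalIdeal_eq]; exact Ideal.subset_span ⟨i, rfl⟩)
  choose z hz using fun i : Fin 2 => hlift 2 (mk (MvPowerSeries.X i))
  have hzm : ∀ i, z i ∈ maximalIdeal A := fun i => by
    have h1 := sub_mem (hX i) (Ideal.pow_le_self two_ne_zero (hz i))
    rw [sub_sub_cancel, ← pow_one (maximalIdeal Q), hE] at h1
    rwa [pow_one] at h1
  have hEm : ∀ i, E (z i) ∈ maximalIdeal Q := fun i => by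
    have := (hE 1 (z i)).mpr (by rw [pow_one]; exact hzm i)
    rwa [pow_one] at this
  choose r hr using fun t : ResidueField A => hlift 1 (mk (MvPowerSeries.C t))
  simp only [pow_one] at hr
  have hspan : Ideal.span {z 0, z 1} ⊔ maximalIdeal A ^ 2 = maximalIdeal A := by
    refine le_antisymm (sup_le ?_ (Ideal.pow_le_self two_ne_zero)) fun w hw => ?_
    · rw [Ideal.span_le]
      rintro _ (rfl | rfl) <;> exact hzm _
    have h1 : E w ∈ maximalIdeal Q := by
      have := (hE 1 w).mpr (by rwa [pow_one]); rwa [pow_one] at this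
    rw [← hM, PSLoc.maximalIdeal_eq, Ideal.map_span, ← Set.range_comp] at h1
    obtain ⟨p, hp⟩ := (Submodule.mem_span_range_iff_exists_fun Q).mp h1
    choose s hs using fun i : Fin 2 => hlift 1 (p i)
    simp only [pow_one] at hs
    have h2 : w - (s 0 * z 0 + s 1 * z 1) ∈ maximalIdeal A ^ 2 := by
      rw [← hE, map_sub, map_add, map_mul, map_mul, ← hp, Fin.sum_univ_two, smul_eq_mul, smul_eq_mul]
      have key : ∀ i, p i * mk (MvPowerSeries.X i) - E (s i) * E (z i) ∈ maximalIdeal Q ^ 2 := fun i => by
        rw [show p i * mk (MvPowerSeries.X i) - E (s i) * E (z i) =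
          (p i - E (s i)) * E (z i) + p i * (mk (MvPowerSeries.X i) - E (z i)) by ring]
        refine add_mem ?_ (Ideal.mul_mem_left _ _ (hz i))
        rw [pow_two]
        exact Ideal.mul_mem_mul (hs i) (hEm i)
      convert add_mem (key 0) (key 1) using 1
      simp only [Function.comp_apply]
      ring
    rw [← add_sub_cancel (s 0 * z 0 + s 1 * z 1) w]
    refine Submodule.add_mem_sup ?_ h2
    exact Ideal.mem_span_pair.mpr ⟨s 0, s 1, rfl⟩
  refine ⟨hR, ?_, z 0, z 1, r a', r b', r c', hzm 0, hzm 1, hspan, ?_, ?_⟩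
  · set v : Fin 2 → CotangentSpace A := fun i => (maximalIdeal A).toCotangent ⟨z i, hzm i⟩
    have hli : LinearIndependent (ResidueField A) v := by
      rw [Fintype.linearIndependent_iff]
      intro g hg i
      choose s hs using fun i => residue_surjective (g i)
      have h1 : (maximalIdeal A).toCotangent (∑ i, s i • (⟨z i, hzm i⟩ : maximalIdeal A)) = 0 := by
        rw [map_sum, ← hg]
        refine Finset.sum_congr rfl fun i _ => ?_
        rw [map_smul, ← hs i]
        rfl
      rw [Ideal.toCotangent_eq_zero, Fin.sum_univ_two] at h1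
      have h2 : E (s 0 * z 0 + s 1 * z 1) ∈ maximalIdeal Q ^ 2 := (hE 2 _).mpr h1
      choose t ht using fun i => Ideal.Quotient.mk_surjective (E (s i))
      let lin : P := lf (MvPowerSeries.constantCoeff (t 0)) (MvPowerSeries.constantCoeff (t 1))
      have h3 : mk lin ∈ maximalIdeal Q ^ 2 := by
        have key : ∀ i, E (s i) * E (z i) - mk (MvPowerSeries.C (MvPowerSeries.constantCoeff (t i))) *
            mk (MvPowerSeries.X i) ∈ maximalIdeal Q ^ 2 := fun i => by
          rw [show E (s i) * E (z i) - mk (MvPowerSeries.C (MvPowerSeries.constantCoeff (t i))) *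
              mk (MvPowerSeries.X i) = (E (s i) - mk (MvPowerSeries.C (MvPowerSeries.constantCoeff (t i)))) *
                mk (MvPowerSeries.X i) - E (s i) * (mk (MvPowerSeries.X i) - E (z i)) by ring]
          refine sub_mem ?_ (Ideal.mul_mem_left _ _ (hz i))
          rw [pow_two]
          refine Ideal.mul_mem_mul ?_ (hX i)
          rw [← ht i, ← map_sub, ← hM]
          refine Ideal.mem_map_of_mem _ fun hu => ?_
          have := MvPowerSeries.isUnit_iff_constantCoeff.mp hu
          simp at this
        rw [map_add, map_mul, map_mul] at h2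
        convert sub_mem h2 (add_mem (key 0) (key 1)) using 1
        simp [lin, lf]
        ring
      rw [← hM, ← Ideal.map_pow, Ideal.mem_quotient_iff_mem_sup] at h3
      have h4 : lin ∈ maximalIdeal P ^ 2 := by
        refine (sup_le (le_refl (maximalIdeal P ^ 2)) ((Ideal.span_singleton_le_iff_mem (maximalIdeal P ^ 2)).mpr ?_) : maximalIdeal P ^ 2 ⊔ Ideal.span {qf a' b' c'} ≤ maximalIdeal P ^ 2) h3
        have hXP : ∀ i, (MvPowerSeries.X i : P) ∈ maximalIdeal P := fun i => by
          rw [PSLoc.maximalIdeal_eq]; exact Ideal.subset_span ⟨i, rfl⟩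
        refine add_mem (add_mem (Ideal.mul_mem_left _ _ (Ideal.pow_mem_pow (hXP 0) 2)) ?_)
          (Ideal.mul_mem_left _ _ (Ideal.pow_mem_pow (hXP 1) 2))
        rw [mul_assoc, pow_two]
        exact Ideal.mul_mem_left _ _ (Ideal.mul_mem_mul (hXP 0) (hXP 1))
      have h5 : MvPowerSeries.constantCoeff (t 0) = 0 ∧ MvPowerSeries.constantCoeff (t 1) = 0 := by
        by_contra hne
        exact lf_not_mem_sq (not_and_or.mp hne) h4
      have h6 : ∀ i, g i = 0 := fun i => by
        have hc : MvPowerSeries.constantCoeff (t i) = 0 := by fin_cases i; exacts [h5.1, h5.2]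
        have h7 : E (s i) ∈ maximalIdeal Q ^ 1 := by
          rw [pow_one, ← ht i, ← hM]
          refine Ideal.mem_map_of_mem _ fun hu => ?_
          exact not_isUnit_zero (hc ▸ MvPowerSeries.isUnit_iff_constantCoeff.mp hu)
        rw [hE, pow_one] at h7
        rw [← hs i]
        exact (residue_eq_zero_iff _).mpr h7
      exact h6 i
    refine le_antisymm ?_ (by simpa using hli.fintype_card_le_finrank)
    have htop : Submodule.span (ResidueField A) (Set.range v) = ⊤ := by
      rw [eq_top_iff]
      intro w _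
      obtain ⟨⟨w, hw⟩, rfl⟩ := Ideal.toCotangent_surjective _ w
      obtain ⟨p, hp, m, hm, rfl⟩ := Submodule.mem_sup.mp (hspan.ge hw)
      obtain ⟨s₀, s₁, rfl⟩ := Ideal.mem_span_pair.mp hp
      have h1 : (maximalIdeal A).toCotangent ⟨s₀ * z 0 + s₁ * z 1 + m, hw⟩ =
          residue A s₀ • v 0 + residue A s₁ • v 1 := by
        show _ = s₀ • (maximalIdeal A).toCotangent _ + s₁ • (maximalIdeal A).toCotangent _
        rw [← map_smul, ← map_smul, ← map_add, Ideal.toCotangent_eq]
        simpa using hm
      rw [h1]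
      exact add_mem (Submodule.smul_mem _ _ (Submodule.subset_span ⟨0, rfl⟩))
        (Submodule.smul_mem _ _ (Submodule.subset_span ⟨1, rfl⟩))
    have := finrank_range_le_card (R := ResidueField A) v
    rw [Set.finrank, htop, finrank_top] at this
    simpa using this
  · intro h0
    rw [residue_eq_zero_iff] at h0
    have h1 := (hE 1 _).mpr (by rwa [pow_one])
    rw [pow_one, map_sub, map_mul, map_mul, map_pow, map_ofNat] at h1
    have h2 : mk (MvPowerSeries.C (4 * a' * c' - b' ^ 2)) ∈ maximalIdeal Q := by
      simp only [map_sub, map_mul, map_pow, map_ofNat]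
      rw [show 4 * mk (MvPowerSeries.C a') * mk (MvPowerSeries.C c') - mk (MvPowerSeries.C b') ^ 2 =
          4 * E (r a') * E (r c') - E (r b') ^ 2 + (4 * (mk (MvPowerSeries.C a') - E (r a')) * mk (MvPowerSeries.C c')
            + 4 * E (r a') * (mk (MvPowerSeries.C c') - E (r c'))
            - (mk (MvPowerSeries.C b') - E (r b')) * (mk (MvPowerSeries.C b') + E (r b'))) by ring]
      refine add_mem h1 (sub_mem (add_mem ?_ ?_) ?_)
      · exact Ideal.mul_mem_right _ _ (Ideal.mul_mem_left _ _ (hr a'))
      · exact Ideal.mul_mem_left _ _ (hr c')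
      · exact Ideal.mul_mem_right _ _ (hr b')
    refine h2 ((IsUnit.map MvPowerSeries.C (isUnit_iff_ne_zero.mpr fun h => hd ?_)).map mk)
    linear_combination -h
  · rw [← hE]
    simp only [map_add, map_mul, map_pow]
    have hq : mk (MvPowerSeries.C a') * mk (MvPowerSeries.X 0) ^ 2 +
        mk (MvPowerSeries.C b') * mk (MvPowerSeries.X 0) * mk (MvPowerSeries.X 1) +
        mk (MvPowerSeries.C c') * mk (MvPowerSeries.X 1) ^ 2 = 0 := by
      simp only [← map_mul, ← map_pow, ← map_add]
      exact Ideal.Quotient.eq_zero_iff_mem.mpr (Ideal.mem_span_singleton_self _)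
    have key : ∀ (t : ResidueField A) (i j : Fin 2),
        E (r t) * (E (z i) * E (z j)) - mk (MvPowerSeries.C t) * (mk (MvPowerSeries.X i) * mk (MvPowerSeries.X j)) ∈
          maximalIdeal Q ^ 3 := by
      intro t i j
      rw [show E (r t) * (E (z i) * E (z j)) - mk (MvPowerSeries.C t) * (mk (MvPowerSeries.X i) * mk (MvPowerSeries.X j)) =
        -((mk (MvPowerSeries.C t) - E (r t)) * (E (z i) * E (z j)) +
          mk (MvPowerSeries.C t) * ((mk (MvPowerSeries.X i) - E (z i)) * E (z j) +
            mk (MvPowerSeries.X i) * (mk (MvPowerSeries.X j) - E (z j)))) by ring]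
      refine neg_mem (add_mem ?_ (Ideal.mul_mem_left _ _ (add_mem ?_ ?_)))
      · rw [pow_succ', pow_two]; exact Ideal.mul_mem_mul (hr t) (Ideal.mul_mem_mul (hEm i) (hEm j))
      · rw [pow_succ]; exact Ideal.mul_mem_mul (hz i) (hEm j)
      · rw [pow_succ']; exact Ideal.mul_mem_mul (hX i) (hz j)
    convert add_mem (key a' 0 0) (add_mem (key b' 0 1) (key c' 1 1)) using 1
    linear_combination hq

end Groth.Agent.NodeForm
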