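import Groth.Agent.NodeForm.Completion
import Groth.Agent.StrictSSLib.OdpDescent

/-!
# The quadratic relation descends from a formal node and ascends along unramified flat extensions
-/

set_option autoImplicit false
set_option linter.style.haveILetI false

universe u

open IsLocalRing
open Groth.Agent.StrictSSLib

noncomputable section

namespace Groth.Agent.NodeForm

variable {A : Type u} [CommRing A] [IsLocalRing A] [IsNoetherianRing A]

theorem finrank_eq_two_of_not_principal {x y : A} (hx : x ∈ maximalIdeal A) (hy : y ∈ maximalIdeal A)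
    (hspan : Ideal.span {x, y} ⊔ maximalIdeal A ^ 2 = maximalIdeal A)
    (hnp : ∀ w ∈ maximalIdeal A, ¬ maximalIdeal A ≤ Ideal.span {w}) :
    Module.finrank (ResidueField A) (CotangentSpace A) = 2 := by
  classical
  set v : Fin 2 → CotangentSpace A := ![(maximalIdeal A).toCotangent ⟨x, hx⟩, (maximalIdeal A).toCotangent ⟨y, hy⟩]
  have htop : Submodule.span (ResidueField A) (Set.range v) = ⊤ := by
    rw [eq_top_iff]
    intro w _
    obtain ⟨⟨w, hw⟩, rfl⟩ := Ideal.toCotangent_surjective _ w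
    obtain ⟨p, hp, m, hm, rfl⟩ := Submodule.mem_sup.mp (hspan.ge hw)
    obtain ⟨s₀, s₁, rfl⟩ := Ideal.mem_span_pair.mp hp
    have h1 : (maximalIdeal A).toCotangent ⟨s₀ * x + s₁ * y + m, hw⟩ =
        residue A s₀ • v 0 + residue A s₁ • v 1 := by
      show _ = s₀ • (maximalIdeal A).toCotangent _ + s₁ • (maximalIdeal A).toCotangent _
      rw [← map_smul, ← map_smul, ← map_add, Ideal.toCotangent_eq]
      simpa using hm
    rw [h1]
    exact add_mem (Submodule.smul_mem _ _ (Submodule.subset_span ⟨0, rfl⟩))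
      (Submodule.smul_mem _ _ (Submodule.subset_span ⟨1, rfl⟩))
  have hle : Module.finrank (ResidueField A) (CotangentSpace A) ≤ 2 := by
    have := finrank_range_le_card (R := ResidueField A) v
    rw [Set.finrank, htop, finrank_top] at this
    simpa using this
  by_contra hne
  have h1 : Module.finrank (ResidueField A) (CotangentSpace A) ≤ 1 := by omega
  obtain ⟨v₀, hv₀⟩ := finrank_le_one_iff.mp h1
  obtain ⟨⟨w, hw⟩, rfl⟩ := Ideal.toCotangent_surjective _ v₀
  refine hnp w hw ?_
  refine Submodule.le_of_le_smul_of_le_jacobson_bot (I := maximalIdeal A) (IsNoetherian.noetherian _)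
    (maximalIdeal_le_jacobson _) fun z hz => ?_
  obtain ⟨c, hc⟩ := hv₀ ((maximalIdeal A).toCotangent ⟨z, hz⟩)
  obtain ⟨c, rfl⟩ := residue_surjective c
  have h2 : (maximalIdeal A).toCotangent (c • (⟨w, hw⟩ : maximalIdeal A)) = (maximalIdeal A).toCotangent ⟨z, hz⟩ := by
    rw [map_smul]; exact hc
  rw [Ideal.toCotangent_eq] at h2
  have h3 : c * w - z ∈ maximalIdeal A ^ 2 := h2
  rw [← sub_sub_cancel (c * w) z, sub_eq_add_neg, smul_eq_mul, ← pow_two]
  exact Submodule.add_mem_sup (Ideal.mul_mem_left _ c (Ideal.subset_span rfl)) (neg_mem h3)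

theorem disc_ne_zero_of_roots {K : Type u} [Field K] {c₀ c₁ c₂ α₀ β₀ α₁ β₁ : K}
    (hne : c₀ ≠ 0 ∨ c₁ ≠ 0 ∨ c₂ ≠ 0) (hD : α₀ * β₁ - α₁ * β₀ ≠ 0)
    (h0 : c₀ * α₀ ^ 2 + c₁ * (α₀ * β₀) + c₂ * β₀ ^ 2 = 0)
    (h1 : c₀ * α₁ ^ 2 + c₁ * (α₁ * β₁) + c₂ * β₁ ^ 2 = 0) : c₁ ^ 2 - 4 * c₀ * c₂ ≠ 0 := by
  intro hd
  set D := α₀ * β₁ - α₁ * β₀ with hDdef
  have hB : 2 * c₀ * α₀ * α₁ + c₁ * (α₀ * β₁ + α₁ * β₀) + 2 * c₂ * β₀ * β₁ = 0 := by
    refine (pow_eq_zero_iff two_ne_zero).mp ?_
    linear_combination D ^ 2 * hd + 4 * (c₀ * α₁ ^ 2 + c₁ * (α₁ * β₁) + c₂ * β₁ ^ 2) * h0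
  have e0 : c₀ = 0 := by
    refine (mul_eq_zero.mp ?_).resolve_right (pow_ne_zero 2 hD)
    linear_combination β₁ ^ 2 * h0 - β₀ * β₁ * hB + β₀ ^ 2 * h1
  have e2 : c₂ = 0 := by
    refine (mul_eq_zero.mp ?_).resolve_right (pow_ne_zero 2 hD)
    linear_combination α₁ ^ 2 * h0 - α₀ * α₁ * hB + α₀ ^ 2 * h1
  rw [e0] at hd
  have e1 : c₁ = 0 := (pow_eq_zero_iff two_ne_zero).mp (by linear_combination hd)
  rcases hne with h | h | h
  exacts [h e0, h e1, h e2]

set_option maxHeartbeats 1600000 in
/-- The algebraic node conditions below a formal node. -/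
theorem exists_relation_of_formalNode {K : Type u} [Field K] [Algebra A (FormalNode K)]
    [IsLocalHom (algebraMap A (FormalNode K))] [Module.Flat A (FormalNode K)]
    (hm : (maximalIdeal A).map (algebraMap A (FormalNode K)) = maximalIdeal (FormalNode K)) :
    IsReduced A ∧ Module.finrank (ResidueField A) (CotangentSpace A) = 2 ∧
      ∃ x y a b c : A, x ∈ maximalIdeal A ∧ y ∈ maximalIdeal A ∧
        Ideal.span {x, y} ⊔ maximalIdeal A ^ 2 = maximalIdeal A ∧
        residue A (4 * a * c - b ^ 2) ≠ 0 ∧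
        a * x ^ 2 + b * x * y + c * y ^ 2 ∈ maximalIdeal A ^ 3 := by
  classical
  haveI : Module.FaithfullyFlat A (FormalNode K) := Module.FaithfullyFlat.of_flat_of_isLocalHom
  haveI : IsReduced (FormalNode K) := by
    rw [isReduced_iff_pow_one_lt 2 one_lt_two]
    intro z hz
    refine node_ext fun i => ?_
    have := congrArg (nodeAxis i) hz
    rw [map_pow, map_zero] at this
    exact (pow_eq_zero_iff two_ne_zero).mp this
  set Φ := algebraMap A (FormalNode K)
  have hR : IsReduced A := isReduced_of_injective Φ (FaithfulSMul.algebraMap_injective A _)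
  obtain ⟨x, hx, y, hy, hD⟩ := exists_gen_pair hm
  have hxy := span_pair_of_det hm hx hy hD
  have hspan : Ideal.span {x, y} ⊔ maximalIdeal A ^ 2 = maximalIdeal A := by
    rw [← hxy]; exact sup_eq_left.mpr (Ideal.pow_le_self two_ne_zero)
  have hfr : Module.finrank (ResidueField A) (CotangentSpace A) = 2 :=
    finrank_eq_two_of_not_principal hx hy hspan fun w hw h => by
      refine node_pow_not_le (K := K) (n := 1) le_rfl (z := Φ w) ?_ ?_
      · rw [pow_one]; exact map_mem_max hm hw
      · have := Ideal.map_mono (f := Φ) h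
        rw [Ideal.map_span, Set.image_singleton, hm] at this
        rw [pow_one]
        exact this.trans le_sup_left
  have hxm := map_mem_max hm hx
  have hym := map_mem_max hm hy
  have hg : ∀ i, gen (K := K) i ∈ Ideal.span {Φ x, Φ y} := fun i => by
    have h1 := gen_mem (K := K) i
    rwa [← hm, hxy, Ideal.map_span, Set.image_pair] at h1
  obtain ⟨p, q, hpq⟩ := Ideal.mem_span_pair.mp (hg 0)
  obtain ⟨r, s, hrs⟩ := Ideal.mem_span_pair.mp (hg 1)
  have hconst : ∀ (z : FormalNode K) (i : Fin 2), axConst i z = axConst 0 z := by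
    intro z i
    obtain ⟨c, hc⟩ := sub_C_mem_maximalIdeal z
    have key : ∀ j, axConst j z = axConst j (Ideal.Quotient.mk _ (MvPowerSeries.C c)) := fun j => by
      have := axConst_eq_zero j hc
      simp only [axConst, map_sub] at this ⊢
      exact sub_eq_zero.mp this
    rw [key i, key 0]
    simp [axConst, nodeAxis_mk, axisSeries, ← PowerSeries.coeff_zero_eq_constantCoeff_apply]
  have hlin : ∀ (p q : FormalNode K) (i : Fin 2), axLin i (p * Φ x + q * Φ y) =
      axConst 0 p * axLin i (Φ x) + axConst 0 q * axLin i (Φ y) := fun p q i => by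
    rw [axLin_add, axLin_mul i p hxm, axLin_mul i q hym, hconst p i, hconst q i]
  have l00 := hlin p q 0
  have l10 := hlin p q 1
  have l01 := hlin r s 0
  have l11 := hlin r s 1
  rw [hpq, axLin_gen] at l00 l10
  rw [hrs, axLin_gen] at l01 l11
  simp only [Fin.reduceEq, if_false, if_true] at l00 l10 l01 l11
  have hdet : axConst 0 p * axConst 0 s - axConst 0 q * axConst 0 r ≠ 0 := fun h => by
    have : (1 : K) = (axConst 0 p * axConst 0 s - axConst 0 q * axConst 0 r) *
        (axLin 0 (Φ x) * axLin 1 (Φ y) - axLin 1 (Φ x) * axLin 0 (Φ y)) := by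
      linear_combination (norm := ring_nf)
        (axConst 0 r * axLin 1 (Φ x) + axConst 0 s * axLin 1 (Φ y)) * l00 -
          (axConst 0 r * axLin 0 (Φ x) + axConst 0 s * axLin 0 (Φ y)) * l10 + l11
    rw [h, zero_mul] at this
    exact one_ne_zero this
  let f : Fin 3 → A := ![x ^ 2, x * y, y ^ 2]
  let γ : Fin 3 → FormalNode K := ![p * r, p * s + q * r, q * s]
  have hrel : ∑ i, f i • γ i = 0 := by
    simp only [Fin.sum_univ_three, f, γ, Algebra.smul_def, Matrix.cons_val_zero, Matrix.cons_val_one,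
      Matrix.cons_val, map_pow, map_mul]
    show Φ x ^ 2 * (p * r) + Φ x * Φ y * (p * s + q * r) + Φ y ^ 2 * (q * s) = 0
    rw [← gen_mul (K := K) (show (0 : Fin 2) ≠ 1 by decide), ← hpq, ← hrs]
    ring
  obtain ⟨m, a, z, hγ, ha⟩ := Module.Flat.isTrivialRelation_of_sum_smul_eq_zero (R := A) (M := FormalNode K) hrel
  have hunit : ∃ i j, a i j ∉ maximalIdeal A := by
    by_contra hall
    push Not at hall
    have hγm : ∀ i, axConst 0 (γ i) = 0 := fun i => by
      refine axConst_eq_zero 0 ?_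
      rw [hγ i]
      refine Ideal.sum_mem _ fun l _ => ?_
      rw [Algebra.smul_def]
      exact Ideal.mul_mem_right _ _ (map_mem_max hm (hall i l))
    have g0 := hγm 0
    have g1 := hγm 1
    have g2 := hγm 2
    simp only [γ, Matrix.cons_val_zero, Matrix.cons_val_one, Matrix.cons_val, axConst, map_mul, map_add] at g0 g1 g2
    refine hdet ((pow_eq_zero_iff two_ne_zero).mp ?_)
    simp only [axConst]
    linear_combination (PowerSeries.constantCoeff (nodeAxis 0 p) * PowerSeries.constantCoeff (nodeAxis 0 s) +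
        PowerSeries.constantCoeff (nodeAxis 0 q) * PowerSeries.constantCoeff (nodeAxis 0 r)) * g1 -
      4 * PowerSeries.constantCoeff (nodeAxis 0 q) * PowerSeries.constantCoeff (nodeAxis 0 s) * g0
  obtain ⟨i₀, j, hij⟩ := hunit
  have hc : a 0 j * x ^ 2 + a 1 j * (x * y) + a 2 j * y ^ 2 = 0 := by
    have := ha j
    simp only [Fin.sum_univ_three, f, Matrix.cons_val_zero, Matrix.cons_val_one, Matrix.cons_val] at this
    linear_combination this
  refine ⟨hR, hfr, x, y, a 0 j, a 1 j, a 2 j, hx, hy, hspan, ?_, ?_⟩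
  · intro h0
    have hev : ∀ i, axConst 0 (Φ (a 0 j)) * axLin i (Φ x) ^ 2 +
        axConst 0 (Φ (a 1 j)) * (axLin i (Φ x) * axLin i (Φ y)) + axConst 0 (Φ (a 2 j)) * axLin i (Φ y) ^ 2 = 0 := by
      intro i
      have h1 := congrArg (fun t => PowerSeries.coeff 2 (nodeAxis i (Φ t))) hc
      have e : ∀ (c u v : A), u ∈ maximalIdeal A → v ∈ maximalIdeal A →
          PowerSeries.coeff 2 (nodeAxis i (Φ (c * (u * v)))) = axConst 0 (Φ c) * (axLin i (Φ u) * axLin i (Φ v)) := by
        intro c u v hu hv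
        rw [← mul_assoc, map_mul Φ, axCoeff_two_mul i (map_mem_max hm (Ideal.mul_mem_left _ c hu)) (map_mem_max hm hv),
          map_mul Φ, axLin_mul i _ (map_mem_max hm hu), hconst, mul_assoc]
      simp only [map_add, map_zero, pow_two, e _ _ _ hx hx, e _ _ _ hx hy, e _ _ _ hy hy] at h1
      linear_combination h1
    refine disc_ne_zero_of_roots (c₀ := axConst 0 (Φ (a 0 j))) (c₁ := axConst 0 (Φ (a 1 j)))
      (c₂ := axConst 0 (Φ (a 2 j))) ?_ hD (hev 0) (hev 1) ?_
    · have hu : axConst 0 (Φ (a i₀ j)) ≠ 0 := ((notMem_maximalIdeal.mp hij).map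
        ((PowerSeries.constantCoeff.comp (nodeAxis 0)).comp Φ)).ne_zero
      obtain rfl | rfl | rfl : i₀ = 0 ∨ i₀ = 1 ∨ i₀ = 2 := by omega
      exacts [Or.inl hu, Or.inr (Or.inl hu), Or.inr (Or.inr hu)]
    · have h2 := axConst_eq_zero 0 (map_mem_max hm ((residue_eq_zero_iff _).mp h0))
      simp only [axConst, map_sub, map_mul, map_pow, map_ofNat] at h2
      simp only [axConst]
      linear_combination -h2
  · rw [mul_assoc (a 1 j), hc]
    exact zero_mem _

/-- The conditions pass to a flat extension in which the maximal ideal extends. -/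
theorem relation_map {B : Type u} [CommRing B] [IsLocalRing B] [IsNoetherianRing B] [Algebra A B]
    [IsLocalHom (algebraMap A B)] [Module.Flat A B] [IsReduced A]
    (hm : (maximalIdeal A).map (algebraMap A B) = maximalIdeal B)
    (hfr : Module.finrank (ResidueField A) (CotangentSpace A) = 2)
    {x y : A} (hx : x ∈ maximalIdeal A) (hy : y ∈ maximalIdeal A)
    (hspan : Ideal.span {x, y} ⊔ maximalIdeal A ^ 2 = maximalIdeal A) :
    Module.finrank (ResidueField B) (CotangentSpace B) = 2 ∧
      Ideal.span {algebraMap A B x, algebraMap A B y} ⊔ maximalIdeal B ^ 2 = maximalIdeal B ∧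
      ∃ t ∈ maximalIdeal B, IsSMulRegular B t := by
  classical
  haveI : Module.FaithfullyFlat A B := Module.FaithfullyFlat.of_flat_of_isLocalHom
  have hspanB : Ideal.span {algebraMap A B x, algebraMap A B y} ⊔ maximalIdeal B ^ 2 = maximalIdeal B := by
    have := congrArg (Ideal.map (algebraMap A B)) hspan
    rwa [Ideal.map_sup, Ideal.map_span, Set.image_pair, Ideal.map_pow, hm] at this
  have hxB : algebraMap A B x ∈ maximalIdeal B := hm ▸ Ideal.mem_map_of_mem _ hx
  have hyB : algebraMap A B y ∈ maximalIdeal B := hm ▸ Ideal.mem_map_of_mem _ hy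
  obtain ⟨t, ht, htreg⟩ := exists_regular hfr
  refine ⟨finrank_eq_two_of_not_principal hxB hyB hspanB fun w hw h => ?_, hspanB, algebraMap A B t,
    hm ▸ Ideal.mem_map_of_mem _ ht, htreg.of_flat⟩
  have hgenB : maximalIdeal B = Ideal.span {algebraMap A B x, algebraMap A B y} := by
    refine le_antisymm (Submodule.le_of_le_smul_of_le_jacobson_bot (I := maximalIdeal B) (IsNoetherian.noetherian _)
      (maximalIdeal_le_jacobson _) ?_) (Ideal.span_le.mpr (Set.pair_subset hxB hyB))
    rw [smul_eq_mul, ← pow_two]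
    exact hspanB.ge
  have key : ∀ z ∈ maximalIdeal A, maximalIdeal B ≤ Ideal.span {algebraMap A B z} → False := by
    intro z hz hle
    have h1 : maximalIdeal A ≤ Ideal.span {z} ⊔ maximalIdeal A ^ 2 := by
      refine le_trans ?_ le_sup_left
      rw [← Ideal.comap_map_eq_self_of_faithfullyFlat (B := B) (Ideal.span {z}), ← Ideal.map_le_iff_le_comap, hm,
        Ideal.map_span, Set.image_singleton]
      exact hle
    have := finrank_le_one_of_span hz h1
    omega
  obtain ⟨u, hu⟩ := Ideal.mem_span_singleton'.mp (h hxB)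
  obtain ⟨v, hv⟩ := Ideal.mem_span_singleton'.mp (h hyB)
  by_cases hu' : IsUnit u
  · refine key x hx (h.trans ?_)
    rw [Ideal.span_singleton_le_span_singleton, ← hu]
    exact hu'.mul_left_dvd.mpr dvd_rfl
  by_cases hv' : IsUnit v
  · refine key y hy (h.trans ?_)
    rw [Ideal.span_singleton_le_span_singleton, ← hv]
    exact hv'.mul_left_dvd.mpr dvd_rfl
  have h0 : maximalIdeal B ≤ ⊥ := by
    refine Submodule.le_of_le_smul_of_le_jacobson_bot (I := maximalIdeal B) (IsNoetherian.noetherian _)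
      (maximalIdeal_le_jacobson _) ?_
    rw [bot_sup_eq, smul_eq_mul]
    conv_lhs => rw [hgenB]
    rw [Ideal.span_le]
    rintro _ (rfl | rfl)
    · rw [← hu]; exact Ideal.mul_mem_mul hu' hw
    · rw [← hv]; exact Ideal.mul_mem_mul hv' hw
  exact key x hx (h0.trans bot_le)

end Groth.Agent.NodeForm
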