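import Groth.Agent.NodeForm.Converse
import Groth.Prelude.Def_CurvBase
import Mathlib.FieldTheory.PurelyInseparable.Basic

/-!
# Nondegenerate forms over an algebraically closed field split
-/

set_option autoImplicit false
set_option linter.style.haveILetI false

universe u

open IsLocalRing MvPowerSeries

noncomputable section

namespace Groth.Agent.NodeForm

variable {K : Type u} [Field K] [IsAlgClosed K]

theorem exists_split {a b c : K} (hd : b ^ 2 - 4 * a * c ≠ 0) :
    ∃ α β γ δ : K, α * δ - β * γ ≠ 0 ∧ qf a b c = lf α β * lf γ δ := by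
  have key : ∀ α β γ δ : K, a = α * γ → b = α * δ + β * γ → c = β * δ →
      α * δ - β * γ ≠ 0 ∧ qf a b c = lf α β * lf γ δ := by
    intro α β γ δ ha hb hc
    refine ⟨fun h => hd ?_, ?_⟩
    · rw [ha, hb, hc]; linear_combination (α * δ - β * γ) * h
    · simp only [qf, lf, ha, hb, hc, map_mul, map_add]; ring
  by_cases ha : a = 0
  · exact ⟨0, 1, b, c, key 0 1 b c (by simp [ha]) (by ring) (by ring)⟩
  obtain ⟨θ, hθ⟩ := IsAlgClosed.exists_root
    (Polynomial.C a * Polynomial.X ^ 2 + Polynomial.C b * Polynomial.X + Polynomial.C c)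
    (by rw [Polynomial.degree_quadratic ha]; decide)
  have h0 : a * θ ^ 2 + b * θ + c = 0 := by simpa [Polynomial.IsRoot.def] using hθ
  exact ⟨a, -(a * θ), 1, b / a + θ, key a (-(a * θ)) 1 (b / a + θ) (by ring) (by field_simp; ring)
    (by field_simp; linear_combination h0)⟩

/-- A nondegenerate quadratic cone is the node. -/
theorem exists_algEquiv_node {a b c : K} (hd : b ^ 2 - 4 * a * c ≠ 0) :
    Nonempty ((MvPowerSeries (Fin 2) K ⧸ Ideal.span {qf a b c}) ≃ₐ[K]
      (MvPowerSeries (Fin 2) K ⧸
        Ideal.span {(MvPowerSeries.X 0 * MvPowerSeries.X 1 : MvPowerSeries (Fin 2) K)})) := by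
  classical
  obtain ⟨α, β, γ, δ, hdet, he⟩ := exists_split hd
  let y : Fin 2 → MvPowerSeries (Fin 2) K := ![lf α β, lf γ δ]
  have h0 : ∀ i, constantCoeff (y i) = 0 := fun i => by fin_cases i <;> simp [y, lf]
  have hJ : (CAlg48.InverseFunction.jacobian y).det ≠ 0 := by
    rw [Matrix.det_fin_two]
    simp only [CAlg48.InverseFunction.jacobian, Matrix.of_apply, y, Matrix.cons_val_zero, Matrix.cons_val_one,
      (coeff_lf _ _).1, (coeff_lf _ _).2]
    exact hdet
  let e := PlaneCurve70.autoOf y h0 hJ
  have heq : e (X 0 * X 1) = qf a b c := by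
    rw [map_mul, PlaneCurve70.autoOf_X, PlaneCurve70.autoOf_X, he]
    rfl
  refine ⟨(Ideal.quotientEquivAlg _ _ e ?_).symm⟩
  rw [Ideal.map_span, Set.image_singleton]
  exact congrArg (fun z => Ideal.span {z}) heq.symm

/-- An algebraic node over an algebraically closed field is an ordinary double point. -/
theorem isOrdDoublePt_of_relation {B : Type u} [CommRing B] [IsLocalRing B] [IsNoetherianRing B] [Algebra K B]
    (hres : Function.Surjective ((residue B).comp (algebraMap K B)))
    (hfr : Module.finrank (ResidueField B) (CotangentSpace B) = 2) {t : B} (ht : t ∈ maximalIdeal B)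
    (htreg : IsSMulRegular B t) (x y a b c : B) (hx : x ∈ maximalIdeal B) (hy : y ∈ maximalIdeal B)
    (hspan : Ideal.span {x, y} ⊔ maximalIdeal B ^ 2 = maximalIdeal B)
    (hd : residue B (4 * a * c - b ^ 2) ≠ 0)
    (hrel : a * x ^ 2 + b * x * y + c * y ^ 2 ∈ maximalIdeal B ^ 3) :
    Curv2.IsOrdDoublePt K B := by
  classical
  have hbij : Function.Bijective (algebraMap K (ResidueField B)) :=
    ⟨(algebraMap K (ResidueField B)).injective, fun r => by
      obtain ⟨z, hz⟩ := hres r
      exact ⟨z, hz⟩⟩
  haveI : Algebra.IsSeparable K (ResidueField B) :=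
    AlgEquiv.Algebra.isSeparable (AlgEquiv.ofBijective (Algebra.ofId K (ResidueField B)) hbij)
  obtain ⟨e, he⟩ := exists_equiv_of_relation_of_regular (k := K) hfr ht htreg x y a b c hx hy hspan hd hrel
  let s := (RingEquiv.ofBijective (algebraMap K (ResidueField B)) hbij).symm
  have hs : ∀ z, s (algebraMap K (ResidueField B) z) = z := fun z => RingEquiv.symm_apply_apply _ z
  let m : MvPowerSeries (Fin 2) (ResidueField B) ≃+* MvPowerSeries (Fin 2) K :=
    RingEquiv.ofRingHom (MvPowerSeries.map (σ := Fin 2) (s : ResidueField B →+* K))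
      (MvPowerSeries.map (σ := Fin 2) (s.symm : K →+* ResidueField B))
      (by ext f d; simp) (by ext f d; simp)
  have hmC : ∀ z, m (MvPowerSeries.C z) = MvPowerSeries.C (s z) := fun z => by
    show MvPowerSeries.map (σ := Fin 2) (s : ResidueField B →+* K) (MvPowerSeries.C z) = _
    simp
  have hmX : ∀ i, m (MvPowerSeries.X i) = MvPowerSeries.X i := fun i => by
    show MvPowerSeries.map (σ := Fin 2) (s : ResidueField B →+* K) (MvPowerSeries.X i) = _
    simp
  have hm : m (qf (residue B a) (residue B b) (residue B c)) =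
      qf (s (residue B a)) (s (residue B b)) (s (residue B c)) := by
    simp only [qf, map_add, map_mul, map_pow, hmC, hmX]
  have hdK : s (residue B b) ^ 2 - 4 * s (residue B a) * s (residue B c) ≠ 0 := by
    intro h0
    apply hd
    apply s.injective
    simp only [map_sub, map_mul, map_pow, map_ofNat, map_zero]
    linear_combination -h0
  obtain ⟨φ⟩ := exists_algEquiv_node hdK
  let mq : (MvPowerSeries (Fin 2) (ResidueField B) ⧸ Ideal.span {qf (residue B a) (residue B b) (residue B c)}) ≃+*
      (MvPowerSeries (Fin 2) K ⧸ Ideal.span {qf (s (residue B a)) (s (residue B b)) (s (residue B c))}) :=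
    Ideal.quotientEquiv _ _ m (by
      rw [Ideal.map_span, Set.image_singleton]
      exact congrArg (fun z => Ideal.span {z}) hm.symm)
  refine ⟨(e.trans mq).trans φ.toRingEquiv, fun z => ?_⟩
  show φ (mq (e _)) = _
  rw [he]
  show φ (Ideal.Quotient.mk _ (m (MvPowerSeries.C (algebraMap B (ResidueField B) (algebraMap K B z))))) = _
  rw [← IsScalarTower.algebraMap_apply K B (ResidueField B),
    show m (MvPowerSeries.C (algebraMap K (ResidueField B) z)) = MvPowerSeries.C z by rw [hmC, hs]]
  exact φ.commutes z

end Groth.Agent.NodeForm
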