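import Groth.Agent.NodeForm.Chart
import Groth.Agent.NodeForm.Descend
import Groth.Agent.NodeForm.Split
import Groth.Agent.StrictSSLib.OdpConj

/-!
# Nodes and completions with a nondegenerate quadratic equation
-/

set_option autoImplicit false
set_option linter.style.haveILetI false
set_option maxSynthPendingDepth 4

universe u

open CategoryTheory CategoryTheory.Limits AlgebraicGeometry IsLocalRing
open scoped TensorProduct
open Groth.Agent.StrictSSLib

noncomputable section

namespace Groth.Agent.NodeForm

variable {k K : Type u} [Field k] [Field K] [Algebra k K]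

theorem separable_congr {R L : Type u} [Field R] [Field L] (a₁ a₂ : Algebra R L)
    (h : ∀ r, @algebraMap R L _ _ a₁ r = @algebraMap R L _ _ a₂ r) :
    @Algebra.IsSeparable R L _ _ a₁ → @Algebra.IsSeparable R L _ _ a₂ := by
  rw [Algebra.algebra_ext a₁ a₂ h]
  exact id

set_option backward.isDefEq.respectTransparency.types false in
/-- A point under an ordinary double point of the base change to an algebraically closed field. -/
theorem exists_form_of_isOrdDoublePt [IsAlgClosed K] {C Y : Scheme.{u}} {φ : C ⟶ Spec (CommRingCat.of k)}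
    [LocallyOfFiniteType φ] {P : Y ⟶ C} {π : Y ⟶ Spec (CommRingCat.of K)}
    (hpb : IsPullback P π φ (Spec.map (CommRingCat.ofHom (algebraMap k K)))) (y : Y)
    (hx : IsClosed ({P y} : Set C)) (hord : IsOdpAt π y) :
    @Algebra.IsSeparable k (ResidueField (C.presheaf.stalk (P y))) _ _
        ((residue (C.presheaf.stalk (P y))).comp (strMap φ (P y))).toAlgebra ∧
      ∃ a b c : ResidueField (C.presheaf.stalk (P y)), 4 * a * c - b ^ 2 ≠ 0 ∧
        ∃ e : AdicCompletion (maximalIdeal (C.presheaf.stalk (P y))) (C.presheaf.stalk (P y)) ≃+*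
            (MvPowerSeries (Fin 2) (ResidueField (C.presheaf.stalk (P y))) ⧸ Ideal.span {qf a b c}),
          ∀ t : k, e (algebraMap (C.presheaf.stalk (P y)) _ (strMap φ (P y) t)) =
            Ideal.Quotient.mk _ (MvPowerSeries.C (residue _ (strMap φ (P y) t))) := by
  haveI : LocallyOfFiniteType π := MorphismProperty.of_isPullback hpb inferInstance
  haveI : IsLocallyNoetherian Y := LocallyOfFiniteType.isLocallyNoetherian π
  haveI : IsLocallyNoetherian C := LocallyOfFiniteType.isLocallyNoetherian φ
  haveI : Flat P := MorphismProperty.of_isPullback (P := @Flat) hpb.flip inferInstance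
  let A := C.presheaf.stalk (P y)
  let B := Y.presheaf.stalk y
  letI : Algebra k A := (strMap φ (P y)).toAlgebra
  letI : Algebra K B := (strMap π y).toAlgebra
  letI : Algebra A B := (P.stalkMap y).hom.toAlgebra
  letI : Algebra k B := ((strMap π y).comp (algebraMap k K)).toAlgebra
  haveI : IsScalarTower k K B := IsScalarTower.of_algebraMap_eq fun _ => rfl
  haveI : IsScalarTower k A B := IsScalarTower.of_algebraMap_eq fun c => by
    show (strMap π y).comp (algebraMap k K) c = (P.stalkMap y).hom.comp (strMap φ (P y)) c
    rw [← strMap_comp_SpecMap, ← hpb.w, strMap_comp]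
  haveI : IsLocalHom (algebraMap A B) := inferInstanceAs <| IsLocalHom (P.stalkMap y).hom
  haveI : Module.Flat A B := RingHom.flat_algebraMap_iff.mp (Flat.stalkMap P y)
  haveI : Module.Finite k (ResidueField A) := by
    have h := finite_residue (k := k) φ hx
    refine RingHom.finite_algebraMap.mp ?_
    rw [IsScalarTower.algebraMap_eq k A (ResidueField A)]
    exact h
  obtain ⟨R, _, _, toA, toB, -, hk, hR, hK, hA, hB⟩ := exists_stalk_localizations hpb y
  obtain ⟨hFE, hsurj⟩ := prodMap_isLocalization (A := A) (B := B) toA toB hk hR hK hA hB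
  have hordB : Curv2.IsOrdDoublePt K B := hord
  have hm := map_maximalIdeal_of_node hsurj hFE hordB
  have hresB : Function.Surjective ((residue B).comp (algebraMap K B)) :=
    residue_surjective_of_isClosed π (isClosed_singleton_of_over_closed hpb hx)
  haveI hsep := isSeparable_residue hFE hm hresB
  refine ⟨separable_congr _ _ (fun r => IsScalarTower.algebraMap_apply k A (ResidueField A) r) hsep, ?_⟩
  obtain ⟨e, -⟩ := hordB
  haveI : IsLocalHom e.toRingHom := ⟨fun a ha => (isLocalHom_equiv e).map_nonunit a ha⟩
  let toN : B →+* FormalNode K := e.toRingHom.comp (algebraMap B (AdicCompletion (maximalIdeal B) B))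
  letI : Algebra A (FormalNode K) := (toN.comp (algebraMap A B)).toAlgebra
  haveI : IsLocalHom toN := RingHom.isLocalHom_comp _ _
  haveI : IsLocalHom (algebraMap A (FormalNode K)) := RingHom.isLocalHom_comp toN (algebraMap A B)
  haveI : Module.Flat A (FormalNode K) := RingHom.flat_algebraMap_iff.mp
    ((RingHom.flat_algebraMap_iff.mpr inferInstance).comp
      ((RingHom.flat_algebraMap_iff.mpr inferInstance).comp (RingHom.Flat.of_bijective e.bijective)))
  have hmN : (maximalIdeal A).map (algebraMap A (FormalNode K)) = maximalIdeal (FormalNode K) := by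
    show (maximalIdeal A).map (toN.comp (algebraMap A B)) = _
    rw [← Ideal.map_map, hm, ← Ideal.map_map, ← AdicCompletion.maximalIdeal_eq_map (R := B)]
    exact eq_maximalIdeal (Ideal.map_isMaximal_of_equiv e)
  obtain ⟨hred, hfr, x, z, a, b, c, hxm, hzm, hspan, hd, hrel⟩ := exists_relation_of_formalNode hmN
  haveI := hred
  obtain ⟨e', he'⟩ := exists_equiv_of_relation (k := k) hfr x z a b c hxm hzm hspan hd hrel
  refine ⟨residue A a, residue A b, residue A c, ?_, e', he'⟩
  simpa only [map_sub, map_mul, map_pow, map_ofNat] using hd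

set_option backward.isDefEq.respectTransparency.types false in
/-- Over a point whose completion is a nondegenerate cone with separable residue field every point is a node. -/
theorem isOdpAt_of_form [IsAlgClosed K] {C Y : Scheme.{u}} {φ : C ⟶ Spec (CommRingCat.of k)}
    [LocallyOfFiniteType φ] {P : Y ⟶ C} {π : Y ⟶ Spec (CommRingCat.of K)}
    (hpb : IsPullback P π φ (Spec.map (CommRingCat.ofHom (algebraMap k K)))) (y : Y)
    (hx : IsClosed ({P y} : Set C))
    (hsep : @Algebra.IsSeparable k (ResidueField (C.presheaf.stalk (P y))) _ _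
        ((residue (C.presheaf.stalk (P y))).comp (strMap φ (P y))).toAlgebra)
    {a b c : ResidueField (C.presheaf.stalk (P y))} (hd : b ^ 2 - 4 * a * c ≠ 0)
    (e : AdicCompletion (maximalIdeal (C.presheaf.stalk (P y))) (C.presheaf.stalk (P y)) ≃+*
        (MvPowerSeries (Fin 2) (ResidueField (C.presheaf.stalk (P y))) ⧸ Ideal.span {qf a b c})) :
    IsOdpAt π y := by
  haveI : LocallyOfFiniteType π := MorphismProperty.of_isPullback hpb inferInstance
  haveI : IsLocallyNoetherian Y := LocallyOfFiniteType.isLocallyNoetherian π
  haveI : IsLocallyNoetherian C := LocallyOfFiniteType.isLocallyNoetherian φ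
  haveI : Flat P := MorphismProperty.of_isPullback (P := @Flat) hpb.flip inferInstance
  let A := C.presheaf.stalk (P y)
  let B := Y.presheaf.stalk y
  letI : Algebra k A := (strMap φ (P y)).toAlgebra
  letI : Algebra K B := (strMap π y).toAlgebra
  letI : Algebra A B := (P.stalkMap y).hom.toAlgebra
  letI : Algebra k B := ((strMap π y).comp (algebraMap k K)).toAlgebra
  haveI : IsScalarTower k K B := IsScalarTower.of_algebraMap_eq fun _ => rfl
  haveI : IsScalarTower k A B := IsScalarTower.of_algebraMap_eq fun c => by
    show (strMap π y).comp (algebraMap k K) c = (P.stalkMap y).hom.comp (strMap φ (P y)) c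
    rw [← strMap_comp_SpecMap, ← hpb.w, strMap_comp]
  haveI : IsLocalHom (algebraMap A B) := inferInstanceAs <| IsLocalHom (P.stalkMap y).hom
  haveI : Module.Flat A B := RingHom.flat_algebraMap_iff.mp (Flat.stalkMap P y)
  haveI : Algebra.IsSeparable k (ResidueField A) :=
    separable_congr _ _ (fun r => (IsScalarTower.algebraMap_apply k A (ResidueField A) r).symm) hsep
  obtain ⟨R, _, _, toA, toB, hft, hk, hR, hK, hA, hB⟩ := exists_stalk_localizations hpb y
  obtain ⟨-, hsurj⟩ := prodMap_isLocalization (A := A) (B := B) toA toB hk hR hK hA hB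
  haveI : Algebra.EssFiniteType K B := by
    obtain ⟨N, hN⟩ := hB
    haveI := hft
    rw [← RingHom.essFiniteType_algebraMap]
    have he : algebraMap K B = toB.comp
        ((Algebra.TensorProduct.comm k K R).toRingHom.comp (algebraMap K (K ⊗[k] R))) :=
      RingHom.ext fun γ => (hK γ).symm
    rw [he]
    refine RingHom.EssFiniteType.comp (RingHom.EssFiniteType.comp ?_ ?_) ?_
    · exact (RingHom.finiteType_algebraMap.mpr inferInstance).essFiniteType
    · exact (RingHom.FiniteType.of_surjective _ (Algebra.TensorProduct.comm k K R).surjective).essFiniteType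
    · letI := toB.toAlgebra
      exact Algebra.EssFiniteType.of_isLocalization B N
  have hm := map_maximalIdeal_of_separable hsurj
  obtain ⟨hred, hfr, x, z, a', b', c', hxm, hzm, hspan, hd', hrel⟩ := exists_relation_of_equiv hd e
  haveI := hred
  obtain ⟨hfrB, hspanB, t, ht, htreg⟩ := relation_map hm hfr hxm hzm hspan
  have hresB : Function.Surjective ((residue B).comp (algebraMap K B)) :=
    residue_surjective_of_isClosed π (isClosed_singleton_of_over_closed hpb hx)
  refine isOrdDoublePt_of_relation hresB hfrB ht htreg (algebraMap A B x) (algebraMap A B z) (algebraMap A B a')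
    (algebraMap A B b') (algebraMap A B c') (hm ▸ Ideal.mem_map_of_mem _ hxm) (hm ▸ Ideal.mem_map_of_mem _ hzm)
    hspanB ?_ ?_
  · intro h0
    refine hd' ((ResidueField.map (algebraMap A B)).injective ?_)
    rw [ResidueField.map_residue, map_zero]
    simpa only [map_sub, map_mul, map_pow, map_ofNat] using h0
  · have h1 := Ideal.mem_map_of_mem (algebraMap A B) hrel
    rw [Ideal.map_pow, hm] at h1
    simpa only [map_add, map_mul, map_pow] using h1

end Groth.Agent.NodeForm
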