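import Groth.Agent.NodeForm.Converse
import Groth.Agent.StrictSSLib.OdpDescent
import Groth.Prelude.Def_CurvBase
import Mathlib.RingTheory.Etale.Kaehler
import Mathlib.RingTheory.Kaehler.TensorProduct
import Mathlib.RingTheory.Unramified.Field
import Mathlib.RingTheory.IntegralClosure.IsIntegralClosure.Basic

/-!
# Points under a node: the maximal ideal extends and the residue field is separable
-/

set_option autoImplicit false
set_option linter.style.haveILetI false
set_option maxSynthPendingDepth 4

universe u

open IsLocalRing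
open scoped TensorProduct

noncomputable section

namespace Groth.Agent.NodeForm

variable {k K A B : Type u} [Field k] [Field K] [Algebra k K]
  [CommRing A] [IsLocalRing A] [Algebra k A]
  [CommRing B] [IsLocalRing B] [Algebra K B] [Algebra A B] [Algebra k B]
  [IsScalarTower k A B] [IsScalarTower k K B] [IsLocalHom (algebraMap A B)]

variable (k K A B) in
/-- `K ⊗ A → B`. -/
def prodMap : K ⊗[k] A →ₐ[K] B :=
  Algebra.TensorProduct.lift (Algebra.ofId K B) (IsScalarTower.toAlgHom k A B) fun _ _ => Commute.all _ _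

theorem prodMap_tmul (c : K) (a : A) : prodMap k K A B (c ⊗ₜ a) = algebraMap K B c * algebraMap A B a :=
  Algebra.TensorProduct.lift_tmul _ _ _ c a

variable (hsurj : ∀ b : B, ∃ x s, IsUnit (prodMap k K A B s) ∧ b * prodMap k K A B s = prodMap k K A B x)

theorem map_maximalIdeal_le : (maximalIdeal A).map (algebraMap A B) ≤ maximalIdeal B :=
  ((local_hom_TFAE (algebraMap A B)).out 0 2 rfl rfl).mp ‹_›

include hsurj in
/-- Over an algebraic residue extension the extended maximal ideal is primary. -/
theorem exists_pow_le [IsNoetherianRing B] [Algebra.IsAlgebraic k (ResidueField A)] :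
    ∃ N : ℕ, maximalIdeal B ^ N ≤ (maximalIdeal A).map (algebraMap A B) := by
  refine Ideal.exists_pow_le_of_le_radical_of_fg ?_ (IsNoetherian.noetherian _)
  rw [Ideal.radical_eq_sInf]
  refine le_sInf ?_
  rintro P ⟨hP, hPp⟩
  have hcomm : ∀ a ∈ maximalIdeal A, algebraMap A B a ∈ P := fun a ha => hP (Ideal.mem_map_of_mem _ ha)
  let Q : Ideal (K ⊗[k] A) := P.comap (prodMap k K A B).toRingHom
  haveI : Q.IsPrime := Ideal.IsPrime.comap _
  let j : ResidueField A →+* (K ⊗[k] A) ⧸ Q :=
    Ideal.Quotient.lift (maximalIdeal A)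
      ((Ideal.Quotient.mk Q).comp (Algebra.TensorProduct.includeRight.toRingHom : A →+* K ⊗[k] A)) fun a ha => by
        rw [RingHom.comp_apply, Ideal.Quotient.eq_zero_iff_mem, Ideal.mem_comap]
        show prodMap k K A B (1 ⊗ₜ a) ∈ P
        rw [prodMap_tmul, map_one, one_mul]
        exact hcomm a ha
  have hint : Algebra.IsIntegral K ((K ⊗[k] A) ⧸ Q) := ⟨fun z => by
    obtain ⟨z, rfl⟩ := Ideal.Quotient.mk_surjective z
    induction z using TensorProduct.induction_on with
    | zero => rw [map_zero]; exact isIntegral_zero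
    | add x y hx hy => rw [map_add]; exact hx.add hy
    | tmul c a =>
      have e : (c ⊗ₜ[k] a : K ⊗[k] A) = algebraMap K (K ⊗[k] A) c * (1 ⊗ₜ a) := by
        rw [Algebra.TensorProduct.algebraMap_apply, Algebra.TensorProduct.tmul_mul_tmul, mul_one, one_mul]
        rfl
      rw [e, map_mul]
      refine IsIntegral.mul isIntegral_algebraMap (IsIntegral.tower_top (R := k) ?_)
      have hjk : ∀ t : k, j (algebraMap k (ResidueField A) t) = algebraMap k ((K ⊗[k] A) ⧸ Q) t := by
        intro t
        rw [IsScalarTower.algebraMap_apply k A (ResidueField A)]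
        show Ideal.Quotient.mk Q ((Algebra.TensorProduct.includeRight : A →ₐ[k] (K ⊗[k] A)) (algebraMap k A t)) = _
        rw [AlgHom.commutes]
        rfl
      let jA : ResidueField A →ₐ[k] (K ⊗[k] A) ⧸ Q := AlgHom.mk j hjk
      exact (Algebra.IsAlgebraic.isAlgebraic (R := k) (residue A a)).isIntegral.map jA⟩
  haveI : Q.IsMaximal := Ideal.Quotient.maximal_of_isField _
    (isField_of_isIntegral_of_isField' (R := K) (Field.toIsField K))
  have hQ : Q = (maximalIdeal B).comap (prodMap k K A B).toRingHom :=
    Ideal.IsMaximal.eq_of_le ‹_› (Ideal.IsPrime.comap _ (hK := inferInstance)).ne_top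
      (Ideal.comap_mono (le_maximalIdeal hPp.ne_top))
  intro b hb
  obtain ⟨x, s, hs, hbs⟩ := hsurj b
  have hx : x ∈ (maximalIdeal B).comap (prodMap k K A B).toRingHom := by
    show prodMap k K A B x ∈ maximalIdeal B
    rw [← hbs]
    exact Ideal.mul_mem_right _ _ hb
  rw [← hQ] at hx
  have h1 : b * prodMap k K A B s ∈ P := by rw [hbs]; exact hx
  exact (Ideal.mul_unit_mem_iff_mem P hs).mp h1

include hsurj in
/-- A separable residue field: the maximal ideal extends to the maximal ideal. -/
theorem map_maximalIdeal_of_separable [IsNoetherianRing B] [Algebra.IsSeparable k (ResidueField A)]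
    [Algebra.EssFiniteType K B] : (maximalIdeal A).map (algebraMap A B) = maximalIdeal B := by
  set J := (maximalIdeal A).map (algebraMap A B) with hJ
  obtain ⟨N, hN⟩ := exists_pow_le hsurj (k := k) (A := A)
  haveI : Algebra.FormallyUnramified k (ResidueField A) := Algebra.FormallyUnramified.of_isSeparable k _
  let C := B ⧸ J
  haveI : Algebra.FormallyUnramified K C := by
    rw [Algebra.FormallyUnramified.iff_comp_injective]
    intro R _ _ I hI g₁ g₂ e
    letI : Algebra k R := ((algebraMap K R).comp (algebraMap k K)).toAlgebra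
    haveI : IsScalarTower k K R := IsScalarTower.of_algebraMap_eq fun _ => rfl
    let lift : (C →ₐ[K] R) → (ResidueField A →ₐ[k] R) := fun g =>
      AlgHom.mk (Ideal.Quotient.lift (maximalIdeal A) ((g.toRingHom.comp (Ideal.Quotient.mk J)).comp (algebraMap A B))
        (fun a ha => by
          rw [RingHom.comp_apply, RingHom.comp_apply, Ideal.Quotient.eq_zero_iff_mem.mpr (Ideal.mem_map_of_mem _ ha),
            map_zero]))
        (fun t => by
          show g (Ideal.Quotient.mk J (algebraMap A B (algebraMap k A t))) = _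
          rw [← IsScalarTower.algebraMap_apply k A B, IsScalarTower.algebraMap_apply k K B]
          exact g.commutes (algebraMap k K t))
    have hlift : lift g₁ = lift g₂ := by
      refine Algebra.FormallyUnramified.comp_injective I hI (AlgHom.ext fun r => ?_)
      obtain ⟨a, rfl⟩ := residue_surjective r
      exact DFunLike.congr_fun e (Ideal.Quotient.mk J (algebraMap A B a))
    have hA : ∀ a, g₁ (Ideal.Quotient.mk J (algebraMap A B a)) = g₂ (Ideal.Quotient.mk J (algebraMap A B a)) :=
      fun a => DFunLike.congr_fun hlift (residue A a)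
    have hT : ∀ x, g₁ (Ideal.Quotient.mk J (prodMap k K A B x)) = g₂ (Ideal.Quotient.mk J (prodMap k K A B x)) := by
      intro x
      induction x using TensorProduct.induction_on with
      | zero => simp
      | add x y hx hy => simp only [map_add, hx, hy]
      | tmul c a =>
        rw [prodMap_tmul, map_mul, map_mul, map_mul, hA]
        exact congrArg (· * _) ((g₁.commutes c).trans (g₂.commutes c).symm)
    refine AlgHom.ext fun z => ?_
    obtain ⟨b, rfl⟩ := Ideal.Quotient.mk_surjective z
    obtain ⟨x, s, hs, hbs⟩ := hsurj b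
    have h1 := hT x
    rw [← hbs, map_mul, map_mul, map_mul, hT s] at h1
    exact ((hs.map (Ideal.Quotient.mk J)).map g₂).mul_right_cancel h1
  haveI : IsReduced C := Algebra.FormallyUnramified.isReduced_of_field K C
  refine le_antisymm map_maximalIdeal_le fun b hb => ?_
  refine Ideal.Quotient.eq_zero_iff_mem.mp (IsReduced.eq_zero _ ⟨N, ?_⟩)
  rw [← map_pow, Ideal.Quotient.eq_zero_iff_mem]
  exact hN (Ideal.pow_mem_pow hb N)

attribute [local instance] Algebra.TensorProduct.rightAlgebra

/-- The differentials of a localization of a base change of fields. -/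
theorem exists_omega_equiv (hFE : (prodMap k K A B).toRingHom.FormallyEtale) :
    ∃ Θ : B ⊗[A] Ω[A⁄k] ≃ₗ[B] Ω[B⁄K],
      ∀ a, Θ (1 ⊗ₜ KaehlerDifferential.D k A a) = KaehlerDifferential.D K B (algebraMap A B a) := by
  letI : Algebra (K ⊗[k] A) B := (prodMap k K A B).toRingHom.toAlgebra
  haveI : IsScalarTower K (K ⊗[k] A) B := IsScalarTower.of_algebraMap_eq fun c => by
    show _ = prodMap k K A B (c ⊗ₜ 1)
    rw [prodMap_tmul, map_one, mul_one]
  haveI : IsScalarTower A (K ⊗[k] A) B := IsScalarTower.of_algebraMap_eq fun a => by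
    show _ = prodMap k K A B (1 ⊗ₜ a)
    rw [prodMap_tmul, map_one, one_mul]
  haveI : Algebra.FormallyEtale (K ⊗[k] A) B := hFE
  let e1 := KaehlerDifferential.tensorKaehlerEquiv k K A (K ⊗[k] A)
  let Θ : B ⊗[A] Ω[A⁄k] ≃ₗ[B] Ω[B⁄K] :=
    (TensorProduct.AlgebraTensorModule.cancelBaseChange A (K ⊗[k] A) B B Ω[A⁄k]).symm ≪≫ₗ
      (TensorProduct.AlgebraTensorModule.congr (LinearEquiv.refl B B) e1) ≪≫ₗ
      KaehlerDifferential.tensorKaehlerEquivOfFormallyEtale K (K ⊗[k] A) B
  refine ⟨Θ, fun a => ?_⟩
  have he : e1 (1 ⊗ₜ KaehlerDifferential.D k A a) =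
      KaehlerDifferential.D K (K ⊗[k] A) (algebraMap A (K ⊗[k] A) a) := by
    simp [e1, KaehlerDifferential.tensorKaehlerEquiv]
    rw [show (1 : A ⊗[k] K) = 1 ⊗ₜ 1 from rfl, TensorProduct.AlgebraTensorModule.cancelBaseChange_tmul,
      TensorProduct.comm_tmul, KaehlerDifferential.tensorKaehlerEquivBase_tmul, one_smul, one_smul,
      KaehlerDifferential.map_D]
  show KaehlerDifferential.tensorKaehlerEquivOfFormallyEtale K (K ⊗[k] A) B
      (1 ⊗ₜ e1 (1 ⊗ₜ KaehlerDifferential.D k A a)) = _
  rw [he, KaehlerDifferential.tensorKaehlerEquivOfFormallyEtale_apply, KaehlerDifferential.mapBaseChange_tmul,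
    one_smul, KaehlerDifferential.map_D, ← IsScalarTower.algebraMap_apply]

/-- The differentials restricted to the fibre are free. -/
theorem free_fibre (hFE : (prodMap k K A B).toRingHom.FormallyEtale) :
    Module.Free (B ⧸ (maximalIdeal A).map (algebraMap A B))
      ((B ⧸ (maximalIdeal A).map (algebraMap A B)) ⊗[B] Ω[B⁄K]) := by
  obtain ⟨Θ, -⟩ := exists_omega_equiv hFE
  let C := B ⧸ (maximalIdeal A).map (algebraMap A B)
  letI : Algebra (ResidueField A) C := (Ideal.Quotient.lift (maximalIdeal A)
      ((Ideal.Quotient.mk ((maximalIdeal A).map (algebraMap A B))).comp (algebraMap A B))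
      (fun a ha => Ideal.Quotient.eq_zero_iff_mem.mpr (Ideal.mem_map_of_mem _ ha))).toAlgebra
  haveI : IsScalarTower A (ResidueField A) C := IsScalarTower.of_algebraMap_eq fun a => rfl
  let e : C ⊗[ResidueField A] (ResidueField A ⊗[A] Ω[A⁄k]) ≃ₗ[C] C ⊗[B] Ω[B⁄K] :=
    TensorProduct.AlgebraTensorModule.cancelBaseChange A (ResidueField A) C C Ω[A⁄k] ≪≫ₗ
      (TensorProduct.AlgebraTensorModule.cancelBaseChange A B C C Ω[A⁄k]).symm ≪≫ₗ
      (TensorProduct.AlgebraTensorModule.congr (LinearEquiv.refl C C) Θ)
  exact Module.Free.of_equiv e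

section Node

open Groth.Agent.StrictSSLib

variable {R : Type u} [CommRing R] [IsLocalRing R] [IsNoetherianRing R]

theorem map_mem_pow_iff (e : AdicCompletion (maximalIdeal R) R ≃+* FormalNode K) (n : ℕ) (z : R) :
    e (algebraMap R _ z) ∈ maximalIdeal (FormalNode K) ^ n ↔ z ∈ maximalIdeal R ^ n := by
  haveI : IsNoetherianRing (AdicCompletion (maximalIdeal R) R) := RegLoc.Completion.isNoetherianRing_adicCompletion' _
  have h1 : (maximalIdeal (AdicCompletion (maximalIdeal R) R) ^ n).map e.toRingHom =
      maximalIdeal (FormalNode K) ^ n := by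
    rw [Ideal.map_pow, IsLocalRing.map_maximalIdeal_of_surjective _ e.surjective]
  rw [← comap_pow (A := R) n, Ideal.mem_comap, ← h1]
  exact ⟨fun h => by
    obtain ⟨w, hw, hwe⟩ := (Ideal.mem_map_iff_of_surjective _ e.surjective).mp h
    rwa [← e.injective (show e w = e (algebraMap R _ z) from hwe)], fun h => Ideal.mem_map_of_mem _ h⟩

theorem nodeAxis_C (i : Fin 2) (c : K) :
    nodeAxis i (Ideal.Quotient.mk _ (MvPowerSeries.C c)) = PowerSeries.C c := by
  classical
  rw [nodeAxis_mk]
  ext n
  rw [axisSeries, RingHom.coe_mk, MonoidHom.coe_mk, OneHom.coe_mk, PowerSeries.coeff_mk, MvPowerSeries.coeff_C,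
    PowerSeries.coeff_C]
  simp [eq_comm]

theorem exists_approx (e : AdicCompletion (maximalIdeal R) R ≃+* FormalNode K) (n : ℕ) (w : FormalNode K) :
    ∃ z : R, w - e (algebraMap R _ z) ∈ maximalIdeal (FormalNode K) ^ n := by
  obtain ⟨z, hz⟩ := exists_sub_mem n (e.symm w)
  refine ⟨z, ?_⟩
  have := Ideal.mem_map_of_mem e.toRingHom hz
  rw [Ideal.map_pow, IsLocalRing.map_maximalIdeal_of_surjective _ e.surjective, map_sub] at this
  simpa using this

omit [Algebra k B] [IsScalarTower k A B] [IsScalarTower k K B] in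
/-- An ordinary double point whose fibre differentials are free: the ideal is maximal. -/
theorem le_of_free [IsNoetherianRing B] (hord : Curv2.IsOrdDoublePt K B) (J : Ideal B) (hJ : J ≤ maximalIdeal B)
    (hN : ∃ N, maximalIdeal B ^ N ≤ J) (hfree : Module.Free (B ⧸ J) ((B ⧸ J) ⊗[B] Ω[B⁄K])) :
    maximalIdeal B ≤ J := by
  classical
  obtain ⟨e, he⟩ := hord
  obtain ⟨N, hN⟩ := hN
  haveI : Nontrivial (B ⧸ J) := Ideal.Quotient.nontrivial_iff.mpr
    (ne_top_of_le_ne_top (maximalIdeal.isMaximal B).ne_top hJ)
  haveI : IsLocalRing (B ⧸ J) := IsLocalRing.of_surjective' (Ideal.Quotient.mk J) Ideal.Quotient.mk_surjective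
  let E : B →+* FormalNode K := e.toRingHom.comp (algebraMap B _)
  have hE : ∀ (n : ℕ) (z : B), E z ∈ maximalIdeal (FormalNode K) ^ n ↔ z ∈ maximalIdeal B ^ n :=
    fun n z => map_mem_pow_iff e n z
  obtain ⟨a, ha⟩ := exists_approx e (N + 2) (gen 0)
  obtain ⟨b, hb⟩ := exists_approx e (N + 2) (gen 1)
  have ha1 : a ∈ maximalIdeal B := by
    have h1 := sub_mem (gen_mem (K := K) 0) (Ideal.pow_le_self (by omega) ha)
    rw [sub_sub_cancel, ← pow_one (maximalIdeal (FormalNode K))] at h1
    have h2 := (hE 1 a).mp h1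
    rwa [pow_one] at h2
  have hb1 : b ∈ maximalIdeal B := by
    have h1 := sub_mem (gen_mem (K := K) 1) (Ideal.pow_le_self (by omega) hb)
    rw [sub_sub_cancel, ← pow_one (maximalIdeal (FormalNode K))] at h1
    have h2 := (hE 1 b).mp h1
    rwa [pow_one] at h2
  have hab : a * b ∈ maximalIdeal B ^ (N + 2) := by
    rw [← hE, map_mul, show E a * E b =
      gen 0 * gen 1 - ((gen 0 - E a) * gen 1 + E a * (gen 1 - E b)) by ring, gen_mul (by decide), zero_sub]
    exact neg_mem (add_mem (Ideal.mul_mem_right _ _ ha) (Ideal.mul_mem_left _ _ hb))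
  have hgen : maximalIdeal B = Ideal.span {a, b} := by
    refine le_antisymm ?_ (Ideal.span_le.mpr (Set.pair_subset ha1 hb1))
    refine Submodule.le_of_le_smul_of_le_jacobson_bot (I := maximalIdeal B) (IsNoetherian.noetherian _)
      (maximalIdeal_le_jacobson _) fun z hz => ?_
    have h1 : E z ∈ Ideal.span {gen (K := K) 0, gen 1} := by
      rw [← maximalIdeal_formalNode]
      have := (hE 1 z).mpr (by rwa [pow_one]); rwa [pow_one] at this
    obtain ⟨p, q, hpq⟩ := Ideal.mem_span_pair.mp h1
    obtain ⟨p', hp'⟩ := exists_approx e 1 p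
    obtain ⟨q', hq'⟩ := exists_approx e 1 q
    rw [pow_one] at hp' hq'
    have h2 : z - (p' * a + q' * b) ∈ maximalIdeal B ^ 2 := by
      rw [← hE, map_sub, map_add, map_mul, map_mul, ← hpq, show p * gen 0 + q * gen 1 - (E p' * E a + E q' * E b) =
        (p - E p') * gen 0 + E p' * (gen 0 - E a) + ((q - E q') * gen 1 + E q' * (gen 1 - E b)) by ring]
      refine add_mem (add_mem ?_ (Ideal.mul_mem_left _ _ (Ideal.pow_le_pow_right (by omega) ha)))
        (add_mem ?_ (Ideal.mul_mem_left _ _ (Ideal.pow_le_pow_right (by omega) hb)))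
      · rw [pow_two]; exact Ideal.mul_mem_mul hp' (gen_mem 0)
      · rw [pow_two]; exact Ideal.mul_mem_mul hq' (gen_mem 1)
    rw [← add_sub_cancel (p' * a + q' * b) z, smul_eq_mul, ← pow_two]
    exact Submodule.add_mem_sup (Ideal.mem_span_pair.mpr ⟨p', q', rfl⟩) h2
  -- the module
  let d : B → (B ⧸ J) ⊗[B] Ω[B⁄K] := fun z => 1 ⊗ₜ KaehlerDifferential.D K B z
  have hd_smul : ∀ (p z : B), Ideal.Quotient.mk J p • d z = (1 : B ⧸ J) ⊗ₜ (p • KaehlerDifferential.D K B z) := by
    intro p z
    rw [TensorProduct.tmul_smul, ← algebraMap_smul (B ⧸ J) p]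
    rfl
  have hd_mul : ∀ p z, d (p * z) = Ideal.Quotient.mk J p • d z + Ideal.Quotient.mk J z • d p := by
    intro p z
    rw [hd_smul, hd_smul, ← TensorProduct.tmul_add, ← Derivation.leibniz]
  have hd_add : ∀ p z, d (p + z) = d p + d z := fun p z => by
    simp only [d, map_add, TensorProduct.tmul_add]
  have hmkJ : ∀ z ∈ maximalIdeal B ^ N, Ideal.Quotient.mk J z = 0 := fun z hz =>
    Ideal.Quotient.eq_zero_iff_mem.mpr (hN hz)
  have hkill : ∀ (n j : ℕ), N ≤ n + j → ∀ z ∈ maximalIdeal B ^ (n + 1), ∀ w ∈ maximalIdeal B ^ j,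
      Ideal.Quotient.mk J w • d z = 0 := by
    intro n
    induction n with
    | zero =>
      intro j hj z _ w hw
      rw [hmkJ w (Ideal.pow_le_pow_right (by omega) hw), zero_smul]
    | succ n ih =>
      intro j hj z hz w hw
      rw [pow_succ] at hz
      induction hz using Submodule.mul_induction_on' with
      | mem_mul_mem p hp q hq =>
        rw [hd_mul, smul_add, smul_smul, smul_smul, ← map_mul, ← map_mul]
        have h1 : w * p ∈ maximalIdeal B ^ N := Ideal.pow_le_pow_right (by omega)
          (by rw [pow_add]; exact Ideal.mul_mem_mul hw hp : w * p ∈ maximalIdeal B ^ (j + (n + 1)))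
        have h2 : w * q ∈ maximalIdeal B ^ (j + 1) := by rw [pow_succ]; exact Ideal.mul_mem_mul hw hq
        rw [hmkJ _ h1, zero_smul, zero_add, ih (j + 1) (by omega) p hp _ h2]
      | add x _ y _ hx hy => rw [hd_add, smul_add, hx, hy, add_zero]
  have hdab : d (a * b) = 0 := by
    have := hkill (N + 1) 0 (by omega) (a * b) hab 1 (by simp)
    rwa [map_one, one_smul] at this
  let mC : Ideal (B ⧸ J) := (maximalIdeal B).map (Ideal.Quotient.mk J)
  let S : Submodule (B ⧸ J) ((B ⧸ J) ⊗[B] Ω[B⁄K]) := Submodule.span _ {d a, d b}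
  have hconst : ∀ z : B, ∃ c : K, z - algebraMap K B c ∈ maximalIdeal B := fun z => by
    obtain ⟨c, hc⟩ := sub_C_mem_maximalIdeal (E z)
    refine ⟨c, ?_⟩
    rw [← pow_one (maximalIdeal B), ← hE, map_sub, show E (algebraMap K B c) = _ from he c, pow_one]
    exact hc
  have hdspan : ∀ x : (B ⧸ J) ⊗[B] Ω[B⁄K], x ∈ S ⊔ mC • (⊤ : Submodule (B ⧸ J) ((B ⧸ J) ⊗[B] Ω[B⁄K])) := by
    have hdz : ∀ z : B, d z ∈ S ⊔ mC • (⊤ : Submodule (B ⧸ J) ((B ⧸ J) ⊗[B] Ω[B⁄K])) := fun z => by
      obtain ⟨c, hc⟩ := hconst z
      rw [hgen, Ideal.mem_span_pair] at hc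
      obtain ⟨p, q, hpq⟩ := hc
      have hz : z = algebraMap K B c + (p * a + q * b) := by rw [hpq]; ring
      rw [hz, hd_add, hd_add, hd_mul, hd_mul, show d (algebraMap K B c) = 0 by simp [d]]
      rw [zero_add]
      refine add_mem (add_mem ?_ ?_) (add_mem ?_ ?_)
      · exact Submodule.mem_sup_left (Submodule.smul_mem _ _ (Submodule.subset_span (Or.inl rfl)))
      · exact Submodule.mem_sup_right (Submodule.smul_mem_smul (Ideal.mem_map_of_mem _ ha1) trivial)
      · exact Submodule.mem_sup_left (Submodule.smul_mem _ _ (Submodule.subset_span (Or.inr rfl)))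
      · exact Submodule.mem_sup_right (Submodule.smul_mem_smul (Ideal.mem_map_of_mem _ hb1) trivial)
    intro x
    induction x using TensorProduct.induction_on with
    | zero => exact zero_mem _
    | add x y hx hy => exact add_mem hx hy
    | tmul c ω =>
      obtain ⟨c, rfl⟩ := Ideal.Quotient.mk_surjective c
      have hω : ω ∈ Submodule.span B (Set.range (KaehlerDifferential.D K B)) := by
        rw [KaehlerDifferential.span_range_derivation]; trivial
      have h1 : (1 : B ⧸ J) ⊗ₜ[B] ω ∈ S ⊔ mC • (⊤ : Submodule (B ⧸ J) ((B ⧸ J) ⊗[B] Ω[B⁄K])) := by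
        induction hω using Submodule.span_induction with
        | mem y hy => obtain ⟨z, rfl⟩ := hy; exact hdz z
        | zero => simp
        | add y z _ _ hy hz => rw [TensorProduct.tmul_add]; exact add_mem hy hz
        | smul r y _ hy => rw [TensorProduct.tmul_smul]; exact Submodule.smul_of_tower_mem _ r hy
      have h2 := Submodule.smul_mem _ (Ideal.Quotient.mk J c) h1
      rwa [TensorProduct.smul_tmul', smul_eq_mul, mul_one] at h2
  have hmCN : mC ^ N = ⊥ := by
    rw [← Ideal.map_pow, eq_bot_iff, Ideal.map_le_iff_le_comap]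
    exact fun z hz => hmkJ z hz
  have hS : S = ⊤ := by
    refine eq_top_iff.mpr ?_
    have hn : ∀ n, (⊤ : Submodule (B ⧸ J) ((B ⧸ J) ⊗[B] Ω[B⁄K])) ≤ S ⊔ mC ^ n • ⊤ := by
      intro n
      induction n with
      | zero => simp
      | succ n ih =>
        refine fun x _ => (sup_le (le_sup_left : S ≤ S ⊔ mC ^ (n + 1) • ⊤) ?_) (ih trivial)
        refine (Submodule.smul_mono le_rfl (fun y _ => hdspan y)).trans ?_
        rw [Submodule.smul_sup, pow_succ, Submodule.mul_smul]
        exact sup_le_sup_right Submodule.smul_le_right _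
    have := hn N
    rwa [hmCN, Submodule.bot_smul, sup_bot_eq] at this
  -- the two functionals
  have hfun : ∀ i : Fin 2, ∀ c₀ c₁ : B, Ideal.Quotient.mk J c₀ • d a + Ideal.Quotient.mk J c₁ • d b = 0 →
      (if i = 0 then c₀ else c₁) ∈ maximalIdeal B := by
    intro i c₀ c₁ hc
    let ε : B →+* K := PowerSeries.constantCoeff.comp ((nodeAxis i).comp E)
    have hε : ∀ z, ε z = axConst i (E z) := fun z => rfl
    letI : Algebra B K := ε.toAlgebra
    letI : Algebra (B ⧸ J) K := (Ideal.Quotient.lift J ε fun z hz => by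
      refine (hε z).trans (axConst_eq_zero i ?_)
      have := (hE 1 z).mpr (by rw [pow_one]; exact hJ hz)
      rwa [pow_one] at this).toAlgebra
    haveI : IsScalarTower B (B ⧸ J) K := IsScalarTower.of_algebraMap_eq fun _ => rfl
    haveI : IsScalarTower K B K := IsScalarTower.of_algebraMap_eq fun c => by
      show c = ε (algebraMap K B c)
      rw [hε, show E (algebraMap K B c) = _ from he c, axConst, nodeAxis_C, PowerSeries.constantCoeff_C]
    let δ : Derivation K B K := Derivation.mk'
      { toFun := fun z => axLin i (E z)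
        map_add' := fun y z => by rw [map_add, axLin_add]
        map_smul' := fun c z => by
          rw [Algebra.smul_def, map_mul, show E (algebraMap K B c) = _ from he c, RingHom.id_apply, smul_eq_mul,
            axLin, map_mul, nodeAxis_C, PowerSeries.coeff_C_mul]
          rfl }
      fun y z => by
        show axLin i (E (y * z)) = ε y * axLin i (E z) + ε z * axLin i (E y)
        rw [axLin, map_mul, map_mul, PowerSeries.coeff_one_mul, hε, hε]
        simp only [axConst, axLin]
        ring
    let φ : (B ⧸ J) ⊗[B] Ω[B⁄K] →ₗ[B ⧸ J] K := (δ.liftKaehlerDifferential).liftBaseChange (B ⧸ J)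
    have hφ : ∀ z, φ (d z) = axLin i (E z) := fun z => by
      show (δ.liftKaehlerDifferential).liftBaseChange (B ⧸ J) (1 ⊗ₜ KaehlerDifferential.D K B z) = _
      rw [LinearMap.liftBaseChange_tmul, one_smul, Derivation.liftKaehlerDifferential_comp_D]
      rfl
    have hlin : ∀ (z : B) (j : Fin 2), gen j - E z ∈ maximalIdeal (FormalNode K) ^ (N + 2) →
        axLin i (E z) = if j = i then 1 else 0 := by
      intro z j hz
      have h0 : axLin i (gen j - E z) = 0 := coeff_eq_zero_of_mem_pow i (by omega) hz
      have h1 := axLin_add i (gen j - E z) (E z)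
      rw [sub_add_cancel, h0, zero_add, axLin_gen] at h1
      exact h1.symm
    have h1 := congrArg φ hc
    rw [map_add, map_smul, map_smul, hφ, hφ, hlin a 0 ha, hlin b 1 hb, map_zero] at h1
    have key : ∀ c : B, ε c = 0 → c ∈ maximalIdeal B := fun c hc hu => (hu.map ε).ne_zero hc
    obtain rfl | rfl : i = 0 ∨ i = 1 := by omega
    · rw [if_pos rfl]
      refine key _ ?_
      simpa [Algebra.smul_def, RingHom.algebraMap_toAlgebra] using h1
    · rw [if_neg (by decide)]
      refine key _ ?_
      simpa [Algebra.smul_def, RingHom.algebraMap_toAlgebra] using h1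
  let π : (Fin 2 → B ⧸ J) →ₗ[B ⧸ J] (B ⧸ J) ⊗[B] Ω[B⁄K] := Fintype.linearCombination (B ⧸ J) ![d a, d b]
  have hπ : ∀ c, π c = c 0 • d a + c 1 • d b := fun c => by
    simp [π, Fintype.linearCombination_apply, Fin.sum_univ_two]
  have hπs : Function.Surjective π := fun y => by
    have hy : y ∈ S := hS ▸ trivial
    obtain ⟨c₀, c₁, rfl⟩ := Submodule.mem_span_pair.mp hy
    exact ⟨![c₀, c₁], by rw [hπ]; simp⟩
  haveI := hfree
  obtain ⟨σ, hσ⟩ := Module.projective_lifting_property π LinearMap.id hπs
  let p : (Fin 2 → B ⧸ J) →ₗ[B ⧸ J] (Fin 2 → B ⧸ J) := LinearMap.id - σ.comp π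
  have hker : ∀ c, π c = 0 → ∀ i, c i ∈ mC := by
    intro c hc i
    obtain ⟨c₀, h₀⟩ := Ideal.Quotient.mk_surjective (c 0)
    obtain ⟨c₁, h₁⟩ := Ideal.Quotient.mk_surjective (c 1)
    rw [hπ, ← h₀, ← h₁] at hc
    obtain rfl | rfl : i = 0 ∨ i = 1 := by omega
    · rw [← h₀]; exact Ideal.mem_map_of_mem _ (by simpa using hfun 0 c₀ c₁ hc)
    · rw [← h₁]; exact Ideal.mem_map_of_mem _ (by simpa using hfun 1 c₀ c₁ hc)
  have hp : ∀ c i, p c i ∈ mC := fun c => hker _ (by
    show π (c - σ (π c)) = 0
    rw [map_sub]
    exact sub_eq_zero.mpr (LinearMap.congr_fun hσ (π c)).symm)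
  have hzero : ∀ c, π c = 0 → c = 0 := by
    intro c hc
    have hpc : p c = c := by
      show c - σ (π c) = c
      rw [hc, map_zero, sub_zero]
    have hn : ∀ n i, c i ∈ mC ^ n := by
      intro n
      induction n with
      | zero => simp
      | succ n ih =>
        intro i
        have h2 : p c = c 0 • p ![1, 0] + c 1 • p ![0, 1] := by
          rw [← map_smul, ← map_smul, ← map_add]
          congr 1
          funext j
          fin_cases j <;> simp
        rw [← hpc, h2]
        simp only [Pi.add_apply, Pi.smul_apply, smul_eq_mul, pow_succ]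
        exact add_mem (Ideal.mul_mem_mul (ih 0) (hp _ i)) (Ideal.mul_mem_mul (ih 1) (hp _ i))
    funext i
    have := hn N i
    rwa [hmCN, Submodule.mem_bot] at this
  have hw := hzero ![Ideal.Quotient.mk J b, Ideal.Quotient.mk J a] (by
    rw [hπ]
    show Ideal.Quotient.mk J b • d a + Ideal.Quotient.mk J a • d b = 0
    rw [add_comm, ← hd_mul]
    exact hdab)
  rw [hgen, Ideal.span_le]
  rintro _ (rfl | rfl)
  · exact Ideal.Quotient.eq_zero_iff_mem.mp (congrFun hw 1)
  · exact Ideal.Quotient.eq_zero_iff_mem.mp (congrFun hw 0)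

end Node

include hsurj in
/-- Under a node the maximal ideal extends to the maximal ideal. -/
theorem map_maximalIdeal_of_node [IsNoetherianRing B] [Algebra.IsAlgebraic k (ResidueField A)]
    (hFE : (prodMap k K A B).toRingHom.FormallyEtale) (hord : Curv2.IsOrdDoublePt K B) :
    (maximalIdeal A).map (algebraMap A B) = maximalIdeal B :=
  le_antisymm map_maximalIdeal_le
    (le_of_free hord _ map_maximalIdeal_le (exists_pow_le hsurj) (free_fibre hFE))

/-- A point with a reduced geometric fibre point of rational residue field has separable residue field. -/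
theorem isSeparable_residue [Module.Finite k (ResidueField A)]
    (hFE : (prodMap k K A B).toRingHom.FormallyEtale)
    (hm : (maximalIdeal A).map (algebraMap A B) = maximalIdeal B)
    (hres : Function.Surjective ((residue B).comp (algebraMap K B))) : Algebra.IsSeparable k (ResidueField A) := by
  classical
  have hbij : Function.Bijective (algebraMap K (ResidueField B)) :=
    ⟨(algebraMap K (ResidueField B)).injective, fun r => hres r⟩
  let s := (RingEquiv.ofBijective (algebraMap K (ResidueField B)) hbij).symm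
  let ε : B →+* K := (s : ResidueField B →+* K).comp (residue B)
  letI : Algebra B K := ε.toAlgebra
  haveI : IsScalarTower K B K := IsScalarTower.of_algebraMap_eq fun c => ((RingEquiv.ofBijective (algebraMap K (ResidueField B)) hbij).symm_apply_apply c).symm
  have hεA : ∀ a ∈ maximalIdeal A, ε (algebraMap A B a) = 0 := fun a ha => by
    show s (residue B (algebraMap A B a)) = 0
    rw [(residue_eq_zero_iff _).mpr (hm.le (Ideal.mem_map_of_mem _ ha)), map_zero]
  let ι : ResidueField A →+* K := Ideal.Quotient.lift (maximalIdeal A) (ε.comp (algebraMap A B)) hεA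
  haveI : Algebra.FormallyUnramified k (ResidueField A) := by
    refine ⟨subsingleton_of_forall_eq 0 fun ω => ?_⟩
    by_contra hω
    obtain ⟨f, hf⟩ := Module.Projective.exists_dual_ne_zero (ResidueField A) hω
    let f0 : Ω[ResidueField A⁄k] →ₗ[ResidueField A] ResidueField A := f
    letI : Algebra A K := (ε.comp (algebraMap A B)).toAlgebra
    haveI : IsScalarTower A B K := IsScalarTower.of_algebraMap_eq fun _ => rfl
    haveI : IsScalarTower k A K := IsScalarTower.of_algebraMap_eq fun t => by
      show algebraMap k K t = ε (algebraMap A B (algebraMap k A t))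
      rw [← IsScalarTower.algebraMap_apply k A B, IsScalarTower.algebraMap_apply k K B]
      exact IsScalarTower.algebraMap_apply K B K _
    let g : A → K := fun a => ι (f0 (KaehlerDifferential.D k (ResidueField A) (residue A a)))
    let D₀ : Derivation k A K := Derivation.mk'
      { toFun := g
        map_add' := fun x y => by simp only [g, map_add]
        map_smul' := fun t x => by
          show g (t • x) = t • g x
          simp only [g]
          rw [Algebra.smul_def, map_mul, Derivation.leibniz, show residue A (algebraMap k A t) =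
            algebraMap k (ResidueField A) t from rfl, Derivation.map_algebraMap, smul_zero, add_zero,
            map_smul, smul_eq_mul, map_mul, show ι (algebraMap k (ResidueField A) t) =
              ε (algebraMap A B (algebraMap k A t)) from rfl, ← IsScalarTower.algebraMap_apply k A B,
            IsScalarTower.algebraMap_apply k K B, Algebra.smul_def]
          congr 1
          exact (IsScalarTower.algebraMap_apply K B K _).symm }
      fun x y => by
        show g (x * y) = x • g y + y • g x
        simp only [g, map_mul, Derivation.leibniz, map_add, map_smul, smul_eq_mul, Algebra.smul_def]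
        rfl
    obtain ⟨Θ, hΘ⟩ := exists_omega_equiv hFE
    let Λ : Ω[B⁄K] →ₗ[B] K := (D₀.liftKaehlerDifferential.liftBaseChange B).comp Θ.symm.toLinearMap
    let δ : Derivation K B K := Λ.compDer (KaehlerDifferential.D K B)
    have hδ : ∀ a, δ (algebraMap A B a) = g a := fun a => by
      show Λ (KaehlerDifferential.D K B (algebraMap A B a)) = g a
      rw [← hΘ]
      show D₀.liftKaehlerDifferential.liftBaseChange B (Θ.symm (Θ (1 ⊗ₜ KaehlerDifferential.D k A a))) = _
      rw [LinearEquiv.symm_apply_apply, LinearMap.liftBaseChange_tmul, one_smul,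
        Derivation.liftKaehlerDifferential_comp_D]
      rfl
    have hδm : ∀ z ∈ maximalIdeal B, δ z = 0 ∧ ε z = 0 := by
      intro z hz
      rw [← hm, Ideal.map] at hz
      induction hz using Submodule.span_induction with
      | mem x hx =>
        obtain ⟨a, ha, rfl⟩ := hx
        refine ⟨?_, hεA a ha⟩
        rw [hδ]
        simp only [g, (residue_eq_zero_iff a).mpr ha, map_zero]
      | zero => exact ⟨map_zero _, map_zero _⟩
      | add x y _ _ hx hy => exact ⟨by rw [map_add, hx.1, hy.1, add_zero], by rw [map_add, hx.2, hy.2, add_zero]⟩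
      | smul r x _ hx =>
        refine ⟨?_, by rw [smul_eq_mul, map_mul, hx.2, mul_zero]⟩
        rw [smul_eq_mul, Derivation.leibniz, hx.1, smul_zero, zero_add, Algebra.smul_def,
          RingHom.algebraMap_toAlgebra, hx.2, zero_mul]
    have hδ0 : ∀ z, δ z = 0 := fun z => by
      obtain ⟨c, hc⟩ := hres (residue B z)
      have h1 := (hδm (z - algebraMap K B c) (by rw [← residue_eq_zero_iff, map_sub, ← hc]; exact sub_self _)).1
      rwa [map_sub, Derivation.map_algebraMap, sub_zero] at h1
    have hall : ∀ r, f0 (KaehlerDifferential.D k (ResidueField A) r) = 0 := fun r => by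
      obtain ⟨a, rfl⟩ := residue_surjective r
      refine ι.injective ?_
      rw [map_zero]
      exact ((hδ a).symm.trans (hδ0 _))
    refine hf ?_
    have hω' : ω ∈ Submodule.span (ResidueField A) (Set.range (KaehlerDifferential.D k (ResidueField A))) := by
      rw [KaehlerDifferential.span_range_derivation]; trivial
    show f0 ω = 0
    clear hω hf
    induction hω' using Submodule.span_induction with
    | mem x hx => obtain ⟨r, rfl⟩ := hx; exact hall r
    | zero => exact map_zero _
    | add x y _ _ hx hy => rw [map_add, hx, hy, add_zero]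
    | smul c x _ hx => rw [map_smul, hx, smul_zero]
  exact Algebra.FormallyUnramified.isSeparable k (ResidueField A)

end Groth.Agent.NodeForm
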