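import Groth.Agent.StrictSSLib.OdpFieldExt
import Groth.Agent.NodeForm.Kaehler
import Mathlib.AlgebraicGeometry.Morphisms.Finite

/-!
# The local ring of a base change of fields as a localization
-/

set_option autoImplicit false
set_option linter.style.haveILetI false
set_option maxSynthPendingDepth 4

universe u

open CategoryTheory CategoryTheory.Limits AlgebraicGeometry IsLocalRing
open scoped TensorProduct
open Groth.Agent.StrictSSLib

noncomputable section

namespace Groth.Agent.NodeForm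

variable {k K : Type u} [Field k] [Field K] [Algebra k K]

set_option backward.isDefEq.respectTransparency.types false in
/-- An affine chart of the base change of fields around a point, at the level of local rings. -/
theorem exists_stalk_localizations {C Y : Scheme.{u}} {φ : C ⟶ Spec (CommRingCat.of k)} [LocallyOfFiniteType φ]
    {P : Y ⟶ C} {π : Y ⟶ Spec (CommRingCat.of K)}
    (hpb : IsPullback P π φ (Spec.map (CommRingCat.ofHom (algebraMap k K)))) (y : Y) :
    ∃ (R : Type u) (_ : CommRing R) (_ : Algebra k R) (toA : R →+* C.presheaf.stalk (P y))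
      (toB : R ⊗[k] K →+* Y.presheaf.stalk y), Algebra.FiniteType k R ∧
      toA.comp (algebraMap k R) = strMap φ (P y) ∧
      (∀ r, toB (r ⊗ₜ 1) = P.stalkMap y (toA r)) ∧ (∀ γ, toB (1 ⊗ₜ γ) = strMap π y γ) ∧
      (∃ M : Submonoid R, @IsLocalization R _ M (C.presheaf.stalk (P y)) _ toA.toAlgebra) ∧
      ∃ N : Submonoid (R ⊗[k] K), @IsLocalization (R ⊗[k] K) _ N (Y.presheaf.stalk y) _ toB.toAlgebra := by
  haveI : LocallyOfFiniteType π := MorphismProperty.of_isPullback hpb inferInstance
  haveI : IsLocallyNoetherian Y := LocallyOfFiniteType.isLocallyNoetherian π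
  haveI : Flat P := MorphismProperty.of_isPullback (P := @Flat) hpb.flip inferInstance
  obtain ⟨U, hU, hxU, -⟩ := exists_isAffineOpen_mem_and_subset (x := P y) (U := ⊤) trivial
  let R := Γ(C, U)
  letI algR : Algebra k R := (Coh.toGlobal φ |> (C.presheaf.map (homOfLE (le_top (a := U))).op).hom.comp).toAlgebra
  let g : Spec R ⟶ C := hU.fromSpec
  have hg : g ≫ φ = Spec.map (CommRingCat.ofHom (algebraMap k R)) := by
    have h0 := IsAffineOpen.SpecMap_appLE_fromSpec φ (isAffineOpen_top (Spec (CommRingCat.of k))) hU (show U ≤ φ ⁻¹ᵁ ⊤ from le_top)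
    rw [IsAffineOpen.fromSpec_top, Scheme.isoSpec_Spec_inv, ← Spec.map_comp] at h0
    exact h0.symm
  haveI : Algebra.FiniteType k R := by
    have h0 := LocallyOfFiniteType.finiteType_appLE (f := φ) (isAffineOpen_top (Spec (CommRingCat.of k))) hU (show U ≤ φ ⁻¹ᵁ ⊤ from le_top)
    exact h0.comp (RingHom.FiniteType.of_surjective _
      ((ConcreteCategory.isIso_iff_bijective (Scheme.ΓSpecIso (CommRingCat.of k)).inv).mp inferInstance).2)
  let iL : CommRingCat.of R ⟶ CommRingCat.of (R ⊗[k] K) := CommRingCat.ofHom Algebra.TensorProduct.includeLeftRingHom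
  let iR : CommRingCat.of K ⟶ CommRingCat.of (R ⊗[k] K) :=
    CommRingCat.ofHom (Algebra.TensorProduct.includeRight.toRingHom : K →+* R ⊗[k] K)
  have h1 : IsPullback (Spec.map iL) (Spec.map iR) (Spec.map (CommRingCat.ofHom (algebraMap k R)))
      (Spec.map (CommRingCat.ofHom (algebraMap k K))) :=
    isPullback_SpecMap_of_isPushout _ _ _ _ (CommRingCat.isPushout_tensorProduct k R K)
  rw [← hg] at h1
  let g' : Spec (CommRingCat.of (R ⊗[k] K)) ⟶ Y :=
    hpb.lift (Spec.map iL ≫ g) (Spec.map iR) (by rw [Category.assoc]; exact h1.w)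
  have hg'P : g' ≫ P = Spec.map iL ≫ g := hpb.lift_fst _ _ _
  have hg'π : g' ≫ π = Spec.map iR := hpb.lift_snd _ _ _
  have hsq : IsPullback g' (Spec.map iL) P g := by
    refine IsPullback.of_right ?_ hg'P hpb.flip
    rw [hg'π]
    exact h1.flip
  haveI : IsOpenImmersion g' := MorphismProperty.of_isPullback (P := @IsOpenImmersion) hsq.flip inferInstance
  obtain ⟨t, ht⟩ : P y ∈ Set.range g := by rw [hU.range_fromSpec]; exact hxU
  obtain ⟨z, hz, -⟩ := Scheme.Pullback.exists_preimage_pullback (f := P) (g := g) y t ht.symm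
  obtain ⟨p, rfl⟩ : ∃ p, g' p = y :=
    ⟨hsq.isoPullback.inv z, by rw [← Scheme.Hom.comp_apply, hsq.isoPullback_inv_fst]; exact hz⟩
  let S := (Spec (CommRingCat.of (R ⊗[k] K))).presheaf.stalk p
  let σ := asIso (g'.stalkMap p)
  let toB : R ⊗[k] K →+* Y.presheaf.stalk (g' p) :=
    σ.inv.hom.comp (StructureSheaf.toStalk (R ⊗[k] K) p).hom
  refine ⟨R, inferInstance, inferInstance, (C.presheaf.germ U _ hxU).hom, toB, inferInstance, ?_, ?_, ?_, ?_, ?_⟩
  · refine RingHom.ext fun c => ?_
    exact TopCat.Presheaf.germ_res_apply C.presheaf (homOfLE (le_top (a := U))) _ hxU _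
  · intro r
    show σ.inv ((StructureSheaf.toStalk (R ⊗[k] K) p).hom (iL r)) = P.stalkMap (g' p) (C.presheaf.germ U _ hxU r)
    have hx1 : (g' ≫ P) p ∈ U := hxU
    have hx2 : (Spec.map iL ≫ g) p ∈ U := hg'P ▸ hx1
    have key : σ.hom (P.stalkMap (g' p) (C.presheaf.germ U _ hxU r)) = (StructureSheaf.toStalk (R ⊗[k] K) p).hom (iL r) := by
      refine Eq.trans ?_ (((germ_app_congr hg'P U p hx1 hx2 r)).trans (germ_app_SpecMap_fromSpec hU iL p hx2 r))
      show g'.stalkMap p (P.stalkMap (g' p) (C.presheaf.germ U (P (g' p)) hxU r)) = _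
      rw [Scheme.Hom.germ_stalkMap_apply P U (g' p) hxU, Scheme.Hom.germ_stalkMap_apply g' (P ⁻¹ᵁ U) p hxU]
      rfl
    rw [← key, ← CategoryTheory.comp_apply, Iso.hom_inv_id]
    rfl
  · intro γ
    have key : σ.hom (strMap π (g' p) γ) = (StructureSheaf.toStalk (R ⊗[k] K) p).hom (iR γ) := by
      have := DFunLike.congr_fun (strMap_comp g' π p) γ
      rw [hg'π, strMap_SpecMap] at this
      exact this.symm
    show σ.inv ((StructureSheaf.toStalk (R ⊗[k] K) p).hom (iR γ)) = _
    rw [← key, ← CategoryTheory.comp_apply, Iso.hom_inv_id]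
    rfl
  · haveI hl := hU.isLocalization_stalk ⟨_, hxU⟩
    exact ⟨_, hl⟩
  · letI algS : Algebra (R ⊗[k] K) S := (StructureSheaf.toStalk (R ⊗[k] K) p).hom.toAlgebra
    haveI : p.asIdeal.IsPrime := p.isPrime
    haveI : IsLocalization.AtPrime S p.asIdeal := StructureSheaf.IsLocalization.to_stalk (R ⊗[k] K) p
    letI := toB.toAlgebra
    exact ⟨p.asIdeal.primeCompl, IsLocalization.isLocalization_of_algEquiv p.asIdeal.primeCompl
      (AlgEquiv.ofRingEquiv (f := σ.symm.commRingCatIsoToRingEquiv) fun _ => rfl : S ≃ₐ[R ⊗[k] K] _)⟩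

/-- The product map to a base-changed local ring is a localization. -/
theorem prodMap_isLocalization {A B R : Type u} [CommRing A] [IsLocalRing A] [Algebra k A]
    [CommRing B] [IsLocalRing B] [Algebra K B] [Algebra A B] [Algebra k B] [IsScalarTower k A B] [IsScalarTower k K B]
    [IsLocalHom (algebraMap A B)]
    [CommRing R] [Algebra k R] (toA : R →+* A) (toB : R ⊗[k] K →+* B)
    (hk : toA.comp (algebraMap k R) = algebraMap k A)
    (hR : ∀ r, toB (r ⊗ₜ 1) = algebraMap A B (toA r)) (hK : ∀ γ, toB (1 ⊗ₜ γ) = algebraMap K B γ)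
    (hA : ∃ M : Submonoid R, @IsLocalization R _ M A _ toA.toAlgebra)
    (hB : ∃ N : Submonoid (R ⊗[k] K), @IsLocalization (R ⊗[k] K) _ N B _ toB.toAlgebra) :
    (prodMap k K A B).toRingHom.FormallyEtale ∧
      ∀ b : B, ∃ x s, IsUnit (prodMap k K A B s) ∧ b * prodMap k K A B s = prodMap k K A B x := by
  classical
  obtain ⟨M, hM⟩ := hA
  obtain ⟨N, hN⟩ := hB
  letI : Algebra R A := toA.toAlgebra
  letI : Algebra (R ⊗[k] K) B := toB.toAlgebra
  haveI := hM
  haveI := hN
  let toA' : R →ₐ[k] A := AlgHom.mk toA fun t => RingHom.congr_fun hk t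
  let g : R ⊗[k] K →ₐ[k] K ⊗[k] A :=
    (Algebra.TensorProduct.map (AlgHom.id k K) toA').comp (Algebra.TensorProduct.comm k R K).toAlgHom
  have hg : ∀ r γ, g (r ⊗ₜ γ) = γ ⊗ₜ toA r := fun r γ => rfl
  have hψg : ∀ x, prodMap k K A B (g x) = toB x := by
    intro x
    induction x using TensorProduct.induction_on with
    | zero => simp
    | add x y hx hy => rw [map_add, map_add, map_add, hx, hy]
    | tmul r γ =>
      have e : (r ⊗ₜ[k] γ : R ⊗[k] K) = (r ⊗ₜ 1) * (1 ⊗ₜ γ) := by
        rw [Algebra.TensorProduct.tmul_mul_tmul, mul_one, one_mul]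
      rw [hg, prodMap_tmul, e, map_mul, hR, hK, mul_comm]
  have hden : ∀ x : K ⊗[k] A, ∃ (t : M) (r : R ⊗[k] K), x * g ((t : R) ⊗ₜ 1) = g r := by
    intro x
    induction x using TensorProduct.induction_on with
    | zero => exact ⟨1, 0, by rw [zero_mul, map_zero]⟩
    | add x y hx hy =>
      obtain ⟨t, r, hr⟩ := hx
      obtain ⟨t', r', hr'⟩ := hy
      refine ⟨t * t', r * ((t' : R) ⊗ₜ 1) + r' * ((t : R) ⊗ₜ 1), ?_⟩
      have e : ((t : R) * t') ⊗ₜ[k] (1 : K) = ((t : R) ⊗ₜ 1) * ((t' : R) ⊗ₜ 1) := by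
        rw [Algebra.TensorProduct.tmul_mul_tmul, mul_one]
      rw [Submonoid.coe_mul, e, map_mul, map_add, map_mul, map_mul, ← hr, ← hr']
      ring
    | tmul γ a =>
      obtain ⟨⟨r, t⟩, hrt⟩ := IsLocalization.surj M a
      refine ⟨t, r ⊗ₜ γ, ?_⟩
      rw [hg, hg, Algebra.TensorProduct.tmul_mul_tmul, mul_one]
      exact congrArg (γ ⊗ₜ[k] ·) hrt
  have hunit : ∀ t : M, IsUnit (g ((t : R) ⊗ₜ 1)) := fun t => by
    rw [hg]
    exact (IsLocalization.map_units A t).map (Algebra.TensorProduct.includeRight : A →ₐ[k] K ⊗[k] A)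
  have hsurj : ∀ b : B, ∃ x s, IsUnit (prodMap k K A B s) ∧ b * prodMap k K A B s = prodMap k K A B x := fun b => by
    obtain ⟨⟨r, s⟩, hrs⟩ := IsLocalization.surj N b
    refine ⟨g r, g s, ?_, ?_⟩
    · rw [hψg]; exact IsLocalization.map_units B s
    · rw [hψg, hψg]; exact hrs
  refine ⟨?_, hsurj⟩
  letI : Algebra (K ⊗[k] A) B := (prodMap k K A B).toRingHom.toAlgebra
  let U : Submonoid (K ⊗[k] A) := (IsUnit.submonoid B).comap (prodMap k K A B).toRingHom
  haveI : IsLocalization U B :=
  { map_units := fun y => y.2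
    surj := fun b => by
      obtain ⟨x, s, hs, hbs⟩ := hsurj b
      exact ⟨(x, ⟨s, hs⟩), hbs⟩
    exists_of_eq := fun {x y} hxy => by
      obtain ⟨t, r, hr⟩ := hden x
      obtain ⟨t', r', hr'⟩ := hden y
      have h1 : toB (r * ((t' : R) ⊗ₜ 1)) = toB (r' * ((t : R) ⊗ₜ 1)) := by
        rw [← hψg, ← hψg, map_mul g, map_mul g, ← hr, ← hr', map_mul, map_mul, map_mul, map_mul,
          show prodMap k K A B x = prodMap k K A B y from hxy]
        ring
      obtain ⟨s, hs⟩ := IsLocalization.exists_of_eq (M := N) h1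
      refine ⟨⟨g s, ?_⟩, ?_⟩
      · show IsUnit (prodMap k K A B (g s))
        rw [hψg]
        exact IsLocalization.map_units B s
      · have h2 := congrArg g hs
        rw [map_mul g, map_mul g, map_mul g, map_mul g, ← hr, ← hr'] at h2
        refine ((hunit t).mul (hunit t')).mul_right_cancel ?_
        linear_combination h2 }
  exact Algebra.FormallyEtale.of_isLocalization U

/-- The residue field of a closed point is finite over the base field. -/
theorem finite_residue {C : Scheme.{u}} (φ : C ⟶ Spec (CommRingCat.of k)) [LocallyOfFiniteType φ] {x : C}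
    (hx : IsClosed ({x} : Set C)) : ((C.residue x).hom.comp (strMap φ x)).Finite := by
  haveI : IsClosedImmersion (C.fromSpecResidueField x) := isClosed_singleton_iff_isClosedImmersion.mp hx
  haveI h : IsFinite (C.fromSpecResidueField x ≫ φ) :=
    isFinite_iff_locallyOfFiniteType_of_jacobsonSpace.mpr inferInstance
  rw [fromSpecResidueField_comp] at h
  exact (IsFinite.SpecMap_iff _).mp h

end Groth.Agent.NodeForm
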