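import Groth.Agent.NodeForm.Quad
import Groth.Agent.CAlg48.CoeffField
import Groth.Agent.CAlg48.PSEval
import Groth.Agent.ArtFunLib.PowerSeries
import Groth.Agent.RegLoc.Completion
import Mathlib.RingTheory.Smooth.Field
import Mathlib.RingTheory.Etale.Field
import Mathlib.RingTheory.Ideal.Cotangent
import Mathlib.RingTheory.Flat.Basic
import Mathlib.RingTheory.AdicCompletion.AsTensorProduct

/-!
# The completion of a local algebra with a nondegenerate quadratic relation
-/

set_option autoImplicit false
set_option linter.style.haveILetI false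

universe u

open IsLocalRing

noncomputable section

namespace Groth.Agent.NodeForm

variable {A : Type u} [CommRing A] [IsLocalRing A] [IsNoetherianRing A]

theorem comap_pow (n : ℕ) :
    (maximalIdeal (AdicCompletion (maximalIdeal A) A) ^ n).comap (algebraMap A (AdicCompletion (maximalIdeal A) A)) =
      maximalIdeal A ^ n := by
  haveI : IsNoetherianRing (AdicCompletion (maximalIdeal A) A) := RegLoc.Completion.isNoetherianRing_adicCompletion' _
  haveI : Module.FaithfullyFlat A (AdicCompletion (maximalIdeal A) A) := Module.FaithfullyFlat.of_flat_of_isLocalHom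
  rw [AdicCompletion.maximalIdeal_eq_map (R := A), ← Ideal.map_pow, Ideal.comap_map_eq_self_of_faithfullyFlat]

theorem exists_sub_mem (n : ℕ) (z : AdicCompletion (maximalIdeal A) A) :
    ∃ a : A, z - algebraMap A _ a ∈ maximalIdeal (AdicCompletion (maximalIdeal A) A) ^ n := by
  obtain ⟨a, ha⟩ := Submodule.mkQ_surjective _ (AdicCompletion.eval (maximalIdeal A) A n z)
  refine ⟨a, ?_⟩
  have hk : z - algebraMap A _ a ∈ (maximalIdeal A ^ n • ⊤ : Submodule A (AdicCompletion (maximalIdeal A) A)) := by
    rw [AdicCompletion.pow_smul_top_eq_ker_eval (IsNoetherian.noetherian _), LinearMap.mem_ker, map_sub, sub_eq_zero]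
    exact ha.symm
  rw [Ideal.smul_top_eq_map, Submodule.restrictScalars_mem, Ideal.map_pow,
    ← AdicCompletion.maximalIdeal_eq_map] at hk
  exact hk

theorem finrank_le_one_of_span {y : A} (hy : y ∈ maximalIdeal A)
    (h : maximalIdeal A ≤ Ideal.span {y} ⊔ maximalIdeal A ^ 2) :
    Module.finrank (ResidueField A) (CotangentSpace A) ≤ 1 := by
  refine finrank_le_one ((maximalIdeal A).toCotangent ⟨y, hy⟩) fun w => ?_
  obtain ⟨z, rfl⟩ := Ideal.toCotangent_surjective _ w
  obtain ⟨s, hs, w, hw, hsw⟩ := Submodule.mem_sup.mp (h z.2)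
  obtain ⟨r, rfl⟩ := Ideal.mem_span_singleton'.mp hs
  refine ⟨residue A r, ?_⟩
  show r • (maximalIdeal A).toCotangent ⟨y, hy⟩ = _
  rw [← map_smul, Ideal.toCotangent_eq]
  show r * y - (z : A) ∈ _
  rw [← hsw, sub_add_cancel_left]
  exact neg_mem hw

/-- With a two-dimensional cotangent space a presentation by two variables has no linear relations. -/
theorem ker_le_sq {K : Type u} [Field K] (hfr : Module.finrank (ResidueField A) (CotangentSpace A) = 2)
    (θ : MvPowerSeries (Fin 2) K →+* AdicCompletion (maximalIdeal A) A) (hθ : Function.Surjective θ) :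
    RingHom.ker θ ≤ maximalIdeal (MvPowerSeries (Fin 2) K) ^ 2 := by
  classical
  haveI : IsNoetherianRing (AdicCompletion (maximalIdeal A) A) := RegLoc.Completion.isNoetherianRing_adicCompletion' _
  set R := AdicCompletion (maximalIdeal A) A
  have himg : (maximalIdeal (MvPowerSeries (Fin 2) K)).map θ = maximalIdeal R :=
    IsLocalRing.map_maximalIdeal_of_surjective θ hθ
  have hone : ∀ i : Fin 2, maximalIdeal R ≠ Ideal.span {θ (MvPowerSeries.X i)} := by
    intro i hi
    obtain ⟨a, ha⟩ := exists_sub_mem 2 (θ (MvPowerSeries.X i))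
    have ha1 : a ∈ maximalIdeal A := by
      have h1 : algebraMap A R a ∈ maximalIdeal R := by
        have hX : θ (MvPowerSeries.X i) ∈ maximalIdeal R := hi ▸ Ideal.subset_span rfl
        have h3 := sub_mem hX (Ideal.pow_le_self two_ne_zero ha)
        rwa [sub_sub_cancel] at h3
      have h2 : a ∈ (maximalIdeal R ^ 1).comap (algebraMap A R) := by rwa [pow_one]
      rwa [comap_pow, pow_one] at h2
    have h1 := finrank_le_one_of_span ha1 fun z hz => by
      have h2 : algebraMap A R z ∈ maximalIdeal R := by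
        have : z ∈ (maximalIdeal R ^ 1).comap (algebraMap A R) := by rwa [comap_pow, pow_one]
        rwa [pow_one] at this
      rw [hi, Ideal.mem_span_singleton'] at h2
      obtain ⟨w, hw⟩ := h2
      obtain ⟨b, hb⟩ := exists_sub_mem 1 w
      rw [pow_one] at hb
      have h3 : z - b * a ∈ maximalIdeal A ^ 2 := by
        rw [← comap_pow, Ideal.mem_comap, map_sub, map_mul, ← hw,
          show w * θ (MvPowerSeries.X i) - algebraMap A R b * algebraMap A R a =
            (w - algebraMap A R b) * θ (MvPowerSeries.X i) +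
              algebraMap A R b * (θ (MvPowerSeries.X i) - algebraMap A R a) by ring]
        refine add_mem ?_ (Ideal.mul_mem_left _ _ ha)
        rw [pow_two]
        exact Ideal.mul_mem_mul hb (hi ▸ Ideal.subset_span rfl)
      rw [← add_sub_cancel (b * a) z]
      exact Submodule.add_mem_sup (Ideal.mul_mem_left _ _ (Ideal.subset_span rfl)) h3
    omega
  intro g hg
  have hgm : g ∈ maximalIdeal (MvPowerSeries (Fin 2) K) := le_maximalIdeal (RingHom.ker_ne_top θ) hg
  have hc : MvPowerSeries.constantCoeff g = 0 := by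
    by_contra h
    exact hgm (MvPowerSeries.isUnit_iff_constantCoeff.mpr (isUnit_iff_ne_zero.mpr h))
  have hdec : g = MvPowerSeries.X 0 * QuadMorse.div 0 g + MvPowerSeries.X 1 * QuadMorse.div 1 g := by
    conv_lhs => rw [QuadMorse.decomp g, hc, map_zero, zero_add, Fin.sum_univ_two]
  have hunit : ∀ i j : Fin 2, (∀ l, l = i ∨ l = j) →
      θ (MvPowerSeries.X i) * θ (QuadMorse.div i g) + θ (MvPowerSeries.X j) * θ (QuadMorse.div j g) = 0 →
      QuadMorse.div i g ∈ maximalIdeal (MvPowerSeries (Fin 2) K) := by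
    intro i j hall h0 hu
    obtain ⟨v, hv⟩ := (hu.map θ).exists_right_inv
    refine hone j (le_antisymm ?_ ?_)
    · rw [← himg, PSLoc.maximalIdeal_eq, Ideal.map_span, ← Set.range_comp, Ideal.span_le]
      rintro _ ⟨l, rfl⟩
      rcases hall l with rfl | rfl
      · refine Ideal.mem_span_singleton'.mpr ⟨-θ (QuadMorse.div j g) * v, ?_⟩
        show _ = θ (MvPowerSeries.X l)
        linear_combination θ (MvPowerSeries.X l) * hv - v * h0
      · exact Ideal.subset_span rfl
    · rw [Ideal.span_singleton_le_iff_mem, ← himg]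
      refine Ideal.mem_map_of_mem _ ?_
      rw [PSLoc.maximalIdeal_eq]
      exact Ideal.subset_span ⟨j, rfl⟩
  have h0 : θ g = 0 := hg
  rw [hdec, map_add, map_mul, map_mul] at h0
  have hX : ∀ i, (MvPowerSeries.X i : MvPowerSeries (Fin 2) K) ∈ maximalIdeal _ := fun i => by
    rw [PSLoc.maximalIdeal_eq]; exact Ideal.subset_span ⟨i, rfl⟩
  rw [hdec, pow_two]
  exact add_mem (Ideal.mul_mem_mul (hX 0) (hunit 0 1 (fun l => by omega) h0))
    (Ideal.mul_mem_mul (hX 1) (hunit 1 0 (fun l => by omega) (by rw [add_comm]; exact h0)))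

theorem exists_regular [IsReduced A] (hfr : Module.finrank (ResidueField A) (CotangentSpace A) = 2) :
    ∃ t ∈ maximalIdeal A, IsSMulRegular A t := by
  by_contra hcon
  push Not at hcon
  have hdisj : Disjoint (maximalIdeal A : Set A) (nonZeroDivisors A) := by
    rw [Set.disjoint_left]
    intro t ht ht'
    exact hcon t ht (isSMulRegular_iff_right_eq_zero_of_smul.mpr fun x hx => by
      rw [smul_eq_mul, mul_comm] at hx
      exact (mem_nonZeroDivisors_iff_right.mp ht') x hx)
  obtain ⟨z, hz, hz0⟩ := Submodule.exists_mem_ne_zero_of_ne_bot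
    (Ideal.bot_lt_annihilator_of_disjoint_nonZeroDivisors hdisj).ne'
  rw [Submodule.mem_annihilator] at hz
  by_cases hu : IsUnit z
  · have hm : maximalIdeal A ≤ Ideal.span {0} ⊔ maximalIdeal A ^ 2 := fun t ht => by
      have : t = 0 := hu.mul_right_eq_zero.mp (hz t ht)
      rw [this]; exact zero_mem _
    have := finrank_le_one_of_span (zero_mem _) hm
    omega
  · refine hz0 (IsReduced.eq_zero z ⟨2, ?_⟩)
    rw [pow_two]
    exact hz z hu

theorem det_table {R : Type u} [CommRing R] (a b c : R) :
    (VanCyc.polarMatrix (![![a, b], ![0, c]] : Fin 2 → Fin 2 → R) : Matrix (Fin 2) (Fin 2) R).det =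
      4 * a * c - b ^ 2 := by
  rw [Matrix.det_fin_two]
  simp [VanCyc.polarMatrix]
  ring

theorem quadT_table {R : Type u} [CommRing R] (a b c : R) :
    QuadMorse.quadT (![![a, b], ![0, c]] : Fin 2 → Fin 2 → R) (MvPowerSeries.X : Fin 2 → MvPowerSeries (Fin 2) R) =
      qf a b c := by
  simp [QuadMorse.quadT, Fin.sum_univ_two, qf, ← MvPowerSeries.c_eq_algebraMap]
  ring

/-- The cone surjects onto the completion of a local algebra with a nondegenerate quadratic relation. -/
theorem exists_surjective_of_relation {k : Type u} [Field k] [Algebra k A]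
    [Algebra.IsSeparable k (ResidueField A)]
    (x y a b c : A) (hx : x ∈ maximalIdeal A) (hy : y ∈ maximalIdeal A)
    (hspan : Ideal.span {x, y} ⊔ maximalIdeal A ^ 2 = maximalIdeal A)
    (hd : residue A (4 * a * c - b ^ 2) ≠ 0)
    (hrel : a * x ^ 2 + b * x * y + c * y ^ 2 ∈ maximalIdeal A ^ 3) :
    ∃ θ : MvPowerSeries (Fin 2) (ResidueField A) →+* AdicCompletion (maximalIdeal A) A,
      Function.Surjective θ ∧ θ (qf (residue A a) (residue A b) (residue A c)) = 0 ∧
      ∀ t : k, θ (MvPowerSeries.C (algebraMap A (ResidueField A) (algebraMap k A t))) =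
        algebraMap A _ (algebraMap k A t) := by
  classical
  haveI : IsNoetherianRing (AdicCompletion (maximalIdeal A) A) := RegLoc.Completion.isNoetherianRing_adicCompletion' _
  set R := AdicCompletion (maximalIdeal A) A with hR
  let κ := ResidueField A
  let ρ : κ →ₐ[k] ResidueField R :=
    { ResidueField.map (algebraMap A R) with
      commutes' := fun t => by
        show ResidueField.map (algebraMap A R) (algebraMap k κ t) = _
        rw [IsScalarTower.algebraMap_apply k A κ, IsScalarTower.algebraMap_apply k R (ResidueField R),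
          IsScalarTower.algebraMap_apply k A R]
        exact ResidueField.map_residue _ _ }
  have hρ : Function.Bijective ρ := AdicCompletion.residueField_map_bijective A
  haveI : Algebra.FormallyEtale k κ := Algebra.FormallyEtale.of_isSeparable k κ
  haveI : Algebra.FormallySmooth k (ResidueField R) :=
    Algebra.FormallySmooth.of_equiv (AlgEquiv.ofBijective ρ hρ)
  obtain ⟨sR, hsR⟩ := CAlg48.CoeffField.exists_section R k
  let j : κ →ₐ[k] R := sR.comp ρ
  letI : Algebra κ R := j.toRingHom.toAlgebra
  have hj : ∀ r : A, j (residue A r) - algebraMap A R r ∈ maximalIdeal R := fun r => by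
    rw [← residue_eq_zero_iff, map_sub, sub_eq_zero]
    show residue R (sR (ρ (residue A r))) = _
    rw [hsR]
    exact ResidueField.map_residue _ _
  let X₀ : Fin 2 → R := ![algebraMap A R x, algebraMap A R y]
  have hmapm : ∀ r ∈ maximalIdeal A, algebraMap A R r ∈ maximalIdeal R := fun r hr => by
    rw [AdicCompletion.maximalIdeal_eq_map (R := A)]; exact Ideal.mem_map_of_mem _ hr
  have hX₀ : ∀ i, X₀ i ∈ maximalIdeal R := fun i => by
    fin_cases i
    · exact hmapm _ hx
    · exact hmapm _ hy
  obtain ⟨ψ, hψ⟩ := CAlg48.PSEval.exists_algHom (k := κ) (maximalIdeal R) X₀ hX₀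
  haveI : IsAdicComplete (maximalIdeal κ) κ := by
    rw [IsLocalRing.maximalIdeal_eq_bot]; infer_instance
  haveI := ArtFunLib.isAdicComplete_ps (σ := Fin 2) (C := κ)
  have himg : (maximalIdeal (MvPowerSeries (Fin 2) κ)).map (ψ : MvPowerSeries (Fin 2) κ →+* R) =
      Ideal.span {algebraMap A R x, algebraMap A R y} := by
    rw [PSLoc.maximalIdeal_eq, Ideal.map_span, ← Set.range_comp]
    congr 1
    ext z
    simp [X₀, hψ, Fin.exists_fin_two, eq_comm]
  have hψs : Function.Surjective ψ := by
    refine PSLoc.surjective_of_cotangent (maximalIdeal _) (ψ : MvPowerSeries (Fin 2) κ →+* R) ?_ ?_ fun r => ?_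
    · rw [himg, Ideal.span_le]
      rintro _ (rfl | rfl)
      · exact hmapm _ hx
      · exact hmapm _ hy
    · rw [himg]
      have h1 := congrArg (Ideal.map (algebraMap A R)) hspan
      rw [Ideal.map_sup, Ideal.map_span, Set.image_pair, Ideal.map_pow, ← AdicCompletion.maximalIdeal_eq_map] at h1
      exact h1.ge
    · obtain ⟨z, hz⟩ := hρ.2 r
      refine ⟨MvPowerSeries.C z, ?_⟩
      show residue R (ψ (MvPowerSeries.C z)) = r
      rw [show ψ (MvPowerSeries.C z) = j z from ψ.commutes z]
      exact (hsR (ρ z)).trans hz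
  set q := qf (residue A a) (residue A b) (residue A c) with hq
  have hψq : ψ q ∈ maximalIdeal R ^ 3 := by
    have hC : ∀ r, ψ (MvPowerSeries.C (residue A r)) = j (residue A r) := fun r => ψ.commutes _
    simp only [hq, qf, map_add, map_mul, map_pow, hC, hψ, X₀, Matrix.cons_val_zero, Matrix.cons_val_one]
    have h1 : algebraMap A R (a * x ^ 2 + b * x * y + c * y ^ 2) ∈ maximalIdeal R ^ 3 := by
      rw [← Ideal.mem_comap, comap_pow]; exact hrel
    have h2 : ∀ r z w : A, z ∈ maximalIdeal A → w ∈ maximalIdeal A →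
        (j (residue A r) - algebraMap A R r) * (algebraMap A R z * algebraMap A R w) ∈ maximalIdeal R ^ 3 := by
      intro r z w hz hw
      rw [pow_succ', pow_two]
      exact Ideal.mul_mem_mul (hj r) (Ideal.mul_mem_mul (hmapm _ hz) (hmapm _ hw))
    convert add_mem h1 (add_mem (h2 a x x hx hx) (add_mem (h2 b x y hx hy) (h2 c y y hy hy))) using 1
    simp only [map_add, map_mul, map_pow]
    ring
  obtain ⟨R₀, hR₀, hR₀e⟩ : ∃ R₀ ∈ maximalIdeal (MvPowerSeries (Fin 2) κ) ^ 3, ψ R₀ = ψ q := by
    have : ψ q ∈ ((maximalIdeal (MvPowerSeries (Fin 2) κ)) ^ 3).map (ψ : MvPowerSeries (Fin 2) κ →+* R) := by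
      rw [Ideal.map_pow, IsLocalRing.map_maximalIdeal_of_surjective (ψ : MvPowerSeries (Fin 2) κ →+* R) hψs]
      exact hψq
    exact (Ideal.mem_map_iff_of_surjective _ hψs).mp this
  have hdisc : residue A b ^ 2 - 4 * residue A a * residue A c ≠ 0 := by
    intro h0
    apply hd
    simp only [map_sub, map_mul, map_pow, map_ofNat]
    linear_combination -h0
  have hqn : VanCyc.QuadNondeg (![![residue A a, residue A b], ![0, residue A c]] : Fin 2 → Fin 2 → κ) := by
    show IsUnit _
    rw [det_table]
    exact isUnit_iff_ne_zero.mpr fun h0 => hdisc (by linear_combination -h0)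
  obtain ⟨h, hh, hshift⟩ := QuadMorse.exists_shift hqn le_rfl (0 : κ) (R := -R₀)
    (QuadMorse.mem_ordFilt.1 (neg_mem (maximalIdeal_pow_le_ordFilt 3 hR₀)))
  rw [quadT_table, map_zero, add_zero, ← hq] at hshift
  obtain ⟨Φ⟩ := QuadMorse.nonempty_quotientEquiv hh hshift
  have hψF : ∀ z ∈ Ideal.span {q + -R₀}, ψ z = 0 := by
    intro z hz
    obtain ⟨w, rfl⟩ := Ideal.mem_span_singleton'.mp hz
    rw [map_mul, map_add, map_neg, hR₀e, add_neg_cancel, mul_zero]
  let θ : MvPowerSeries (Fin 2) κ →ₐ[κ] R :=
    ((Ideal.Quotient.liftₐ _ ψ hψF).comp Φ.symm.toAlgHom).comp (Ideal.Quotient.mkₐ κ (Ideal.span {q}))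
  have hθs : Function.Surjective θ := by
    intro r
    obtain ⟨z, rfl⟩ := hψs r
    obtain ⟨w, hw⟩ := Ideal.Quotient.mk_surjective (Φ (Ideal.Quotient.mk _ z))
    refine ⟨w, ?_⟩
    show Ideal.Quotient.liftₐ _ ψ hψF (Φ.symm (Ideal.Quotient.mk _ w)) = _
    rw [hw, AlgEquiv.symm_apply_apply]
    rfl
  have hqθ : q ∈ RingHom.ker θ.toRingHom := by
    rw [RingHom.mem_ker]
    show Ideal.Quotient.liftₐ _ ψ hψF (Φ.symm (Ideal.Quotient.mk _ q)) = 0
    rw [Ideal.Quotient.eq_zero_iff_mem.mpr (Ideal.mem_span_singleton_self q), map_zero, map_zero]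
  refine ⟨θ.toRingHom, hθs, RingHom.mem_ker.mp hqθ, fun t => ?_⟩
  show θ (MvPowerSeries.C (algebraMap A κ (algebraMap k A t))) = algebraMap A R (algebraMap k A t)
  rw [← IsScalarTower.algebraMap_apply k A R, ← IsScalarTower.algebraMap_apply k A κ,
    show θ (MvPowerSeries.C (algebraMap k κ t)) = j (algebraMap k κ t) from θ.commutes _]
  exact j.commutes t

/-- The completion of a local algebra of positive depth with a nondegenerate quadratic relation. -/
theorem exists_equiv_of_relation_of_regular {k : Type u} [Field k] [Algebra k A]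
    [Algebra.IsSeparable k (ResidueField A)] (hfr : Module.finrank (ResidueField A) (CotangentSpace A) = 2)
    {t : A} (ht : t ∈ maximalIdeal A) (htreg : IsSMulRegular A t)
    (x y a b c : A) (hx : x ∈ maximalIdeal A) (hy : y ∈ maximalIdeal A)
    (hspan : Ideal.span {x, y} ⊔ maximalIdeal A ^ 2 = maximalIdeal A)
    (hd : residue A (4 * a * c - b ^ 2) ≠ 0)
    (hrel : a * x ^ 2 + b * x * y + c * y ^ 2 ∈ maximalIdeal A ^ 3) :
    ∃ e : AdicCompletion (maximalIdeal A) A ≃+*
        (MvPowerSeries (Fin 2) (ResidueField A) ⧸ Ideal.span {qf (residue A a) (residue A b) (residue A c)}),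
      ∀ t : k, e (algebraMap A _ (algebraMap k A t)) =
        Ideal.Quotient.mk _ (MvPowerSeries.C (algebraMap A (ResidueField A) (algebraMap k A t))) := by
  classical
  obtain ⟨θ, hθs, hqθ, hθk⟩ := exists_surjective_of_relation (k := k) x y a b c hx hy hspan hd hrel
  set R := AdicCompletion (maximalIdeal A) A with hR
  set q := qf (residue A a) (residue A b) (residue A c) with hq
  have htR : IsSMulRegular R (algebraMap A R t) := htreg.of_flat
  obtain ⟨t', ht'⟩ := hθs (algebraMap A R t)
  have ht'm : t' ∈ maximalIdeal (MvPowerSeries (Fin 2) (ResidueField A)) := fun hu => by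
    have h1 : algebraMap A R t ∈ maximalIdeal R := by
      rw [AdicCompletion.maximalIdeal_eq_map (R := A)]; exact Ideal.mem_map_of_mem _ ht
    exact h1 (ht' ▸ hu.map θ)
  have hdisc : residue A b ^ 2 - 4 * residue A a * residue A c ≠ 0 := by
    intro h0
    apply hd
    simp only [map_sub, map_mul, map_pow, map_ofNat]
    linear_combination -h0
  have hker : RingHom.ker θ = Ideal.span {q} :=
    le_antisymm (le_span_of_regular hdisc (RingHom.mem_ker.mpr hqθ) (ker_le_sq hfr θ hθs) ht'm fun z hz => by
        rw [RingHom.mem_ker] at hz ⊢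
        have h1 : algebraMap A R t * θ z = 0 := by rw [← ht', ← map_mul]; exact hz
        exact htR (show algebraMap A R t • θ z = algebraMap A R t • 0 by simpa using h1))
      ((Ideal.span_singleton_le_iff_mem _).mpr (RingHom.mem_ker.mpr hqθ))
  refine ⟨((Ideal.quotEquivOfEq hker.symm).trans (RingHom.quotientKerEquivOfSurjective hθs)).symm, fun t => ?_⟩
  rw [RingEquiv.symm_apply_eq]
  exact (hθk t).symm

/-- The completion of a reduced local algebra with a nondegenerate quadratic relation. -/
theorem exists_equiv_of_relation {k : Type u} [Field k] [Algebra k A] [Algebra.IsSeparable k (ResidueField A)]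
    [IsReduced A] (hfr : Module.finrank (ResidueField A) (CotangentSpace A) = 2)
    (x y a b c : A) (hx : x ∈ maximalIdeal A) (hy : y ∈ maximalIdeal A)
    (hspan : Ideal.span {x, y} ⊔ maximalIdeal A ^ 2 = maximalIdeal A)
    (hd : residue A (4 * a * c - b ^ 2) ≠ 0)
    (hrel : a * x ^ 2 + b * x * y + c * y ^ 2 ∈ maximalIdeal A ^ 3) :
    ∃ e : AdicCompletion (maximalIdeal A) A ≃+*
        (MvPowerSeries (Fin 2) (ResidueField A) ⧸ Ideal.span {qf (residue A a) (residue A b) (residue A c)}),
      ∀ t : k, e (algebraMap A _ (algebraMap k A t)) =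
        Ideal.Quotient.mk _ (MvPowerSeries.C (algebraMap A (ResidueField A) (algebraMap k A t))) := by
  obtain ⟨t, ht, htreg⟩ := exists_regular hfr
  exact exists_equiv_of_relation_of_regular hfr ht htreg x y a b c hx hy hspan hd hrel

end Groth.Agent.NodeForm
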