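import Groth.Agent.PlaneCurve70.Auto
import Groth.Agent.QuadMorse.Normal
import Groth.Agent.PSLoc.Basic
import Mathlib.Algebra.Polynomial.SpecificDegree
import Mathlib.FieldTheory.Minpoly.IsConjRoot
import Mathlib.FieldTheory.IsAlgClosed.AlgebraicClosure
import Mathlib.RingTheory.Ideal.Height
import Mathlib.RingTheory.Nilpotent.Basic
import Mathlib.Tactic.LinearCombination

/-!
# Nondegenerate binary quadratic forms as power series
-/

set_option autoImplicit false
set_option linter.style.haveILetI false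

universe u

open IsLocalRing MvPowerSeries

noncomputable section

namespace Groth.Agent.NodeForm

variable {K : Type u} [Field K]

/-- The power series of a binary quadratic form. -/
abbrev qf {R : Type u} [CommRing R] (a b c : R) : MvPowerSeries (Fin 2) R :=
  C a * X 0 ^ 2 + C b * X 0 * X 1 + C c * X 1 ^ 2

/-- The power series of a linear form. -/
abbrev lf {R : Type u} [CommRing R] (α β : R) : MvPowerSeries (Fin 2) R := C α * X 0 + C β * X 1

theorem coeff_lf {R : Type u} [CommRing R] (α β : R) :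
    coeff (Finsupp.single 0 1) (lf α β) = α ∧ coeff (Finsupp.single 1 1) (lf α β) = β := by
  classical
  constructor <;> simp [lf, coeff_X, Finsupp.single_left_inj]

theorem prime_lf {α β : K} (h : α ≠ 0 ∨ β ≠ 0) : Prime (lf α β) := by
  rcases h with h | h
  · exact PlaneCurve70.prime_of_not_mem_two (m := 1) (i := 0) (by simp [lf]) (by rwa [(coeff_lf α β).1])
  · exact PlaneCurve70.prime_of_not_mem_two (m := 1) (i := 1) (by simp [lf]) (by rwa [(coeff_lf α β).2])

theorem not_dvd_lf {α β γ δ : K} (h : α * δ - β * γ ≠ 0) : ¬ lf α β ∣ lf γ δ := by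
  rintro ⟨w, hw⟩
  have h0 := congrArg (coeff (Finsupp.single (0 : Fin 2) 1)) hw
  have h1 := congrArg (coeff (Finsupp.single (1 : Fin 2) 1)) hw
  rw [PlaneCurve70.coeff_single_mul, (coeff_lf γ δ).1, (coeff_lf α β).1] at h0
  rw [PlaneCurve70.coeff_single_mul, (coeff_lf γ δ).2, (coeff_lf α β).2] at h1
  simp [lf] at h0 h1
  exact h (by rw [h0, h1]; ring)

theorem maximalIdeal_le_ordFilt :
    maximalIdeal (MvPowerSeries (Fin 2) K) ≤ (QuadMorse.ordFilt K 2).I 1 := by
  rw [PSLoc.maximalIdeal_eq, Ideal.span_le]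
  rintro _ ⟨i, rfl⟩
  exact QuadMorse.X_mem i

theorem maximalIdeal_pow_le_ordFilt (n : ℕ) :
    maximalIdeal (MvPowerSeries (Fin 2) K) ^ n ≤ (QuadMorse.ordFilt K 2).I n := by
  induction n with
  | zero => rw [(QuadMorse.ordFilt K 2).zero]; exact le_top
  | succ n ih =>
    rw [pow_succ]
    refine Ideal.mul_le.mpr fun x hx y hy => ?_
    exact (QuadMorse.ordFilt K 2).mul (ih hx) (maximalIdeal_le_ordFilt hy)

theorem lf_not_mem_sq {α β : K} (h : α ≠ 0 ∨ β ≠ 0) : lf α β ∉ maximalIdeal (MvPowerSeries (Fin 2) K) ^ 2 := by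
  intro hm
  have h2 := QuadMorse.mem_ordFilt.1 (maximalIdeal_pow_le_ordFilt 2 hm)
  have h0 := h2 (Finsupp.single 0 1) (by simp)
  have h1 := h2 (Finsupp.single 1 1) (by simp)
  rw [(coeff_lf α β).1] at h0
  rw [(coeff_lf α β).2] at h1
  exact h.elim (fun h => h h0) (fun h => h h1)

theorem dvd_of_dvd_map {L : Type u} [Field L] [Algebra K L] {q x : MvPowerSeries (Fin 2) K}
    (h : MvPowerSeries.map (algebraMap K L) q ∣ MvPowerSeries.map (algebraMap K L) x) : q ∣ x := by
  classical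
  obtain ⟨w, hw⟩ := h
  obtain ⟨π, hπ⟩ := LinearMap.exists_leftInverse_of_injective (Algebra.linearMap K L)
    (LinearMap.ker_eq_bot.mpr (algebraMap K L).injective)
  have hπ' : ∀ t : K, π (algebraMap K L t) = t := fun t => LinearMap.congr_fun hπ t
  refine ⟨show MvPowerSeries (Fin 2) K from fun e => π (coeff e w), MvPowerSeries.ext fun e => ?_⟩
  have h1 := congrArg (fun f => π (coeff e f)) hw
  simp only [coeff_map, hπ', coeff_mul, map_sum] at h1
  rw [h1, coeff_mul]
  refine Finset.sum_congr rfl fun p _ => ?_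
  rw [← Algebra.smul_def, map_smul]
  rfl

theorem qf_ne_zero {a b c : K} (hd : b ^ 2 - 4 * a * c ≠ 0) : qf a b c ≠ 0 := by
  classical
  intro h
  have hmap : ∀ e, coeff e (qf a b c) = 0 := fun e => by rw [h, map_zero]
  have hb : b = 0 := by
    have := hmap (Finsupp.single 0 1 + Finsupp.single 1 1)
    simp only [qf, map_add, mul_assoc, coeff_C_mul, pow_two, X_def, monomial_mul_monomial, coeff_monomial] at this
    simpa [Finsupp.ext_iff, Fin.forall_fin_two] using this
  have ha : a = 0 := by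
    have := hmap (Finsupp.single 0 1 + Finsupp.single 0 1)
    simp only [qf, map_add, mul_assoc, coeff_C_mul, pow_two, X_def, monomial_mul_monomial, coeff_monomial] at this
    simpa [Finsupp.ext_iff, Fin.forall_fin_two] using this
  exact hd (by rw [ha, hb]; ring)

/-- A nondegenerate binary form is a product of two distinct linear primes, or prime. -/
theorem split_or_prime {a b c : K} (hd : b ^ 2 - 4 * a * c ≠ 0) :
    (∃ l l' : MvPowerSeries (Fin 2) K, Prime l ∧ Prime l' ∧ ¬ l ∣ l' ∧ ¬ l' ∣ l ∧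
      l ∉ maximalIdeal _ ^ 2 ∧ l' ∉ maximalIdeal _ ^ 2 ∧ qf a b c = l * l') ∨ Prime (qf a b c) := by
  by_cases ha : a = 0
  · subst ha
    have hb : b ≠ 0 := fun h => hd (by rw [h]; ring)
    refine Or.inl ⟨lf 0 1, lf b c, prime_lf (Or.inr one_ne_zero), prime_lf (Or.inl hb), not_dvd_lf ?_,
      not_dvd_lf ?_, lf_not_mem_sq (Or.inr one_ne_zero), lf_not_mem_sq (Or.inl hb), ?_⟩
    · simpa using hb
    · simpa using hb
    · simp only [qf, lf, map_zero, map_one]; ring
  by_cases hroot : ∃ θ : K, a * θ ^ 2 + b * θ + c = 0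
  · obtain ⟨θ, hθ⟩ := hroot
    set θ' := -(b / a) - θ with hθ'
    have hb : b = -a * (θ + θ') := by rw [hθ']; field_simp; ring
    have hc : c = a * θ * θ' := by
      rw [hθ']; field_simp; linear_combination hθ
    have hne : θ ≠ θ' := fun h => hd (by rw [hb, hc, h]; ring)
    refine Or.inl ⟨lf a (-(a * θ)), lf 1 (-θ'), prime_lf (Or.inl ha), prime_lf (Or.inl one_ne_zero),
      not_dvd_lf ?_, not_dvd_lf ?_, lf_not_mem_sq (Or.inl ha), lf_not_mem_sq (Or.inl one_ne_zero), ?_⟩
    · intro h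
      have h1 : a * (θ - θ') = 0 := by linear_combination h
      exact mul_ne_zero ha (sub_ne_zero.mpr hne) h1
    · intro h
      have h1 : a * (θ - θ') = 0 := by linear_combination -h
      exact mul_ne_zero ha (sub_ne_zero.mpr hne) h1
    · simp only [qf, lf, hb, hc, map_neg, map_mul, map_add, map_one]; ring
  right
  let L := AlgebraicClosure K
  let p : Polynomial K := Polynomial.X ^ 2 + Polynomial.C (b / a) * Polynomial.X + Polynomial.C (c / a)
  have hdeg : p.natDegree = 2 := by simp only [p]; compute_degree!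
  have hmon : p.Monic := by simp only [p]; monicity!
  have hirr : Irreducible p := by
    rw [Polynomial.Monic.irreducible_iff_roots_eq_zero_of_degree_le_three hmon (by omega) (by omega)]
    refine Multiset.eq_zero_of_forall_notMem fun θ hθ => hroot ⟨θ, ?_⟩
    rw [Polynomial.mem_roots hmon.ne_zero, Polynomial.IsRoot.def] at hθ
    simp [p] at hθ
    field_simp at hθ
    linear_combination hθ
  obtain ⟨θ, hθ⟩ := IsAlgClosed.exists_root (p.map (algebraMap K L))
    (by rw [Polynomial.degree_map, Polynomial.degree_eq_natDegree hmon.ne_zero, hdeg]; norm_num)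
  have hθ1 : θ ^ 2 + algebraMap K L (b / a) * θ + algebraMap K L (c / a) = 0 := by
    simpa [p, Polynomial.IsRoot.def] using hθ
  set θ' := -algebraMap K L (b / a) - θ with hθ'
  have hθ2 : θ' ^ 2 + algebraMap K L (b / a) * θ' + algebraMap K L (c / a) = 0 := by
    rw [hθ']; linear_combination hθ1
  have hmin : ∀ x : L, x ^ 2 + algebraMap K L (b / a) * x + algebraMap K L (c / a) = 0 → minpoly K x = p :=
    fun x hx => (minpoly.eq_of_irreducible_of_monic hirr (by simpa [p] using hx) hmon).symm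
  obtain ⟨σ, hσ⟩ := IsConjRoot.exists_algEquiv (K := K) (x := θ') (y := θ)
    (isConjRoot_def.mpr ((hmin _ hθ2).trans (hmin _ hθ1).symm))
  have hb' : algebraMap K L b = -algebraMap K L a * (θ + θ') := by
    rw [hθ', add_sub_cancel, neg_mul_neg, ← map_mul, mul_div_cancel₀ b ha]
  have hc' : algebraMap K L c = algebraMap K L a * θ * θ' := by
    have : algebraMap K L c = algebraMap K L a * algebraMap K L (c / a) := by
      rw [← map_mul, mul_div_cancel₀ c ha]
    rw [this, hθ']; linear_combination algebraMap K L a * hθ1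
  have hne : θ ≠ θ' := fun h => by
    apply hd
    apply (algebraMap K L).injective
    simp only [map_sub, map_pow, map_mul, map_ofNat, map_zero, hb', hc', h]
    ring
  set ι := MvPowerSeries.map (σ := Fin 2) (algebraMap K L) with hι
  have hq : ι (qf a b c) = C (algebraMap K L a) * lf 1 (-θ) * lf 1 (-θ') := by
    simp only [hι, qf, lf, map_add, map_mul, map_pow, MvPowerSeries.map_C, MvPowerSeries.map_X, hb', hc',
      map_neg, map_one]
    ring
  have hswap : ∀ x, lf 1 (-θ) ∣ ι x → lf 1 (-θ') ∣ ι x := by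
    intro x hx
    have h1 := map_dvd (MvPowerSeries.map (σ := Fin 2) (σ : L →+* L)) hx
    have h2 : MvPowerSeries.map (σ := Fin 2) (σ : L →+* L) (ι x) = ι x := by
      ext e; simp [hι]
    have h3 : MvPowerSeries.map (σ := Fin 2) (σ : L →+* L) (lf 1 (-θ)) = lf 1 (-θ') := by
      simp [lf, hσ]
    rwa [h2, h3] at h1
  have hswap' : ∀ x, lf 1 (-θ') ∣ ι x → lf 1 (-θ) ∣ ι x := by
    intro x hx
    have h1 := map_dvd (MvPowerSeries.map (σ := Fin 2) (σ.symm : L →+* L)) hx
    have h2 : MvPowerSeries.map (σ := Fin 2) (σ.symm : L →+* L) (ι x) = ι x := by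
      ext e; simp [hι]
    have h3 : MvPowerSeries.map (σ := Fin 2) (σ.symm : L →+* L) (lf 1 (-θ')) = lf 1 (-θ) := by
      simp [lf, ← hσ]
    rwa [h2, h3] at h1
  have hl := prime_lf (α := (1 : L)) (β := -θ) (Or.inl one_ne_zero)
  have hl' := prime_lf (α := (1 : L)) (β := -θ') (Or.inl one_ne_zero)
  have hboth : ∀ x, lf 1 (-θ) ∣ ι x → qf a b c ∣ x := fun x hx => by
    refine dvd_of_dvd_map (L := L) ?_
    rw [← hι, hq, mul_assoc]
    have hu : IsUnit (C (algebraMap K L a) : MvPowerSeries (Fin 2) L) :=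
      (IsUnit.mk0 _ ((map_ne_zero _).mpr ha)).map C
    rw [hu.mul_left_dvd]
    obtain ⟨w, hw⟩ := hx
    rcases hl'.dvd_or_dvd (hw ▸ hswap x ⟨w, hw⟩) with h | h
    · exact absurd h (not_dvd_lf (fun h => hne (by linear_combination -h)))
    · rw [hw]; exact mul_dvd_mul_left _ h
  refine ⟨qf_ne_zero hd, fun hu => ?_, fun x y hxy => ?_⟩
  · have := MvPowerSeries.isUnit_iff_constantCoeff.mp hu
    simp [qf] at this
  have h1 := map_dvd ι hxy
  rw [map_mul ι, hq, mul_assoc] at h1
  rcases hl.dvd_or_dvd ((dvd_mul_right _ _).trans ((dvd_mul_left _ _).trans h1)) with h | h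
  · exact Or.inl (hboth x h)
  · exact Or.inr (hboth y h)

theorem dvd_of_sq_dvd {a b c : K} (hd : b ^ 2 - 4 * a * c ≠ 0) {x : MvPowerSeries (Fin 2) K}
    (h : qf a b c ∣ x ^ 2) : qf a b c ∣ x := by
  rcases split_or_prime hd with ⟨l, l', hl, hl', hll', -, -, -, he⟩ | hp
  · rw [he] at h ⊢
    obtain ⟨w, rfl⟩ := hl.dvd_of_dvd_pow ((dvd_mul_right _ _).trans h)
    rcases hl'.dvd_or_dvd (hl'.dvd_of_dvd_pow ((dvd_mul_left _ _).trans h)) with h2 | h2
    · exact absurd (hl'.associated_of_dvd hl h2).symm.dvd hll'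
    · exact mul_dvd_mul_left _ h2
  · exact hp.dvd_of_dvd_pow h

theorem isReduced_quotient {a b c : K} (hd : b ^ 2 - 4 * a * c ≠ 0) :
    IsReduced (MvPowerSeries (Fin 2) K ⧸ Ideal.span {qf a b c}) := by
  rw [isReduced_iff_pow_one_lt 2 one_lt_two]
  intro x hx
  obtain ⟨x, rfl⟩ := Ideal.Quotient.mk_surjective x
  rw [← map_pow, Ideal.Quotient.eq_zero_iff_mem, Ideal.mem_span_singleton] at hx
  rw [Ideal.Quotient.eq_zero_iff_mem, Ideal.mem_span_singleton]
  exact dvd_of_sq_dvd hd hx

theorem eq_maximalIdeal_of_lt {p : MvPowerSeries (Fin 2) K} (hp : Prime p) {Q : Ideal (MvPowerSeries (Fin 2) K)}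
    [Q.IsPrime] (hpQ : p ∈ Q) (hne : Q ≠ maximalIdeal _) : Q = Ideal.span {p} := by
  haveI := PlaneCurve70.isDomain (k := K) (n := 2)
  haveI : (Ideal.span {p}).IsPrime := (Ideal.span_singleton_prime hp.ne_zero).mpr hp
  by_contra hQp
  have h1 : Ideal.span {p} < Q := lt_of_le_of_ne ((Ideal.span_singleton_le_iff_mem _).mpr hpQ) (Ne.symm hQp)
  have h2 : Q < maximalIdeal _ := lt_of_le_of_ne (le_maximalIdeal Ideal.IsPrime.ne_top') hne
  have h0 : (⊥ : Ideal (MvPowerSeries (Fin 2) K)) < Ideal.span {p} := bot_lt_iff_ne_bot.mpr (by simpa using hp.ne_zero)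
  haveI := Ideal.isPrime_bot (α := MvPowerSeries (Fin 2) K)
  have a0 := Ideal.height_add_one_le_of_lt_of_isPrime h0
  have a1 := Ideal.height_add_one_le_of_lt_of_isPrime h1
  have a2 := Ideal.height_add_one_le_of_lt_of_isPrime h2
  have hd : ((maximalIdeal (MvPowerSeries (Fin 2) K)).height : WithBot ℕ∞) = 2 := by
    rw [IsLocalRing.maximalIdeal_height_eq_ringKrullDim, PSLoc.ringKrullDim_eq]; rfl
  have hd2 : (maximalIdeal (MvPowerSeries (Fin 2) K)).height = 2 := WithBot.coe_injective hd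
  rw [hd2] at a2
  have : (3 : ℕ∞) ≤ 2 := calc
    (3 : ℕ∞) ≤ (⊥ : Ideal (MvPowerSeries (Fin 2) K)).height + 1 + 1 + 1 := by
      rw [add_assoc, add_assoc]; exact le_add_self
    _ ≤ (Ideal.span {p}).height + 1 + 1 := by gcongr
    _ ≤ Q.height + 1 := by gcongr
    _ ≤ 2 := a2
  exact absurd this (by decide)

/-- An ideal above the form, inside `m²`, with a regular element on the quotient, is the form's. -/
theorem le_span_of_regular {a b c : K} (hd : b ^ 2 - 4 * a * c ≠ 0) {J : Ideal (MvPowerSeries (Fin 2) K)}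
    (hqJ : qf a b c ∈ J) (hJ : J ≤ maximalIdeal _ ^ 2) {t : MvPowerSeries (Fin 2) K}
    (ht : t ∈ maximalIdeal _) (hreg : ∀ x, t * x ∈ J → x ∈ J) : J ≤ Ideal.span {qf a b c} := by
  have key : ∀ f ∉ J, ∃ Q : Ideal (MvPowerSeries (Fin 2) K), Q.IsPrime ∧ Q ≠ maximalIdeal _ ∧
      ∀ y, y * f ∈ J → y ∈ Q := by
    intro f hf
    let C' : Ideal (MvPowerSeries (Fin 2) K) := J.colon {f}
    have hC : ∀ y, y ∈ C' ↔ y * f ∈ J := fun y => Submodule.mem_colon_singleton
    have htC : t ∉ C'.radical := by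
      rintro ⟨n, hn⟩
      rw [hC] at hn
      refine hf ?_
      induction n with
      | zero => simpa using hn
      | succ n ih => exact ih (hreg _ (by rwa [pow_succ', mul_assoc] at hn))
    rw [Ideal.radical_eq_sInf, Submodule.mem_sInf] at htC
    push Not at htC
    obtain ⟨Q, ⟨hQ, hQp⟩, htQ⟩ := htC
    exact ⟨Q, hQp, fun h => htQ (h ▸ ht), fun y hy => hQ ((hC y).mpr hy)⟩
  rcases split_or_prime hd with ⟨l, l', hl, hl', hll', hl'l, hlm, hl'm, he⟩ | hp
  · have side : ∀ {l l' : MvPowerSeries (Fin 2) K}, Prime l → Prime l' → ¬ l ∣ l' → l ∉ maximalIdeal _ ^ 2 →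
        l * l' ∈ J → J ≤ Ideal.span {l'} := by
      intro l l' hl hl' hll' hlm he
      obtain ⟨Q, hQp, hQm, hQ⟩ := key l (fun h => hlm (hJ h))
      have hl'Q : l' ∈ Q := hQ _ (mul_comm l l' ▸ he)
      rw [← eq_maximalIdeal_of_lt hl' hl'Q hQm]
      exact fun x hx => hQ x (Ideal.mul_mem_right _ _ hx)
    intro x hx
    have h1 := side hl hl' hll' hlm (he ▸ hqJ) hx
    have h2 := side hl' hl hl'l hl'm (mul_comm l l' ▸ he ▸ hqJ) hx
    rw [Ideal.mem_span_singleton] at h1 h2 ⊢
    obtain ⟨w, rfl⟩ := h2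
    rw [he]
    exact mul_dvd_mul_left _ ((hl'.dvd_or_dvd h1).resolve_left hl'l)
  · have h1 : (1 : MvPowerSeries (Fin 2) K) ∉ J := fun h =>
      (maximalIdeal.isMaximal _).ne_top ((Ideal.eq_top_iff_one _).mpr (Ideal.pow_le_self two_ne_zero (hJ h)))
    obtain ⟨Q, hQp, hQm, hQ⟩ := key 1 h1
    rw [← eq_maximalIdeal_of_lt hp (hQ _ (by rwa [mul_one])) hQm]
    exact fun x hx => hQ x (by rwa [mul_one])

end Groth.Agent.NodeForm
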